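import Cfsg.Agent.H464.RM.Count
import Cfsg.Agent.H171.Odd.Tools
import Cfsg.Agent.SignalizersComponents.CoprimeGen
import Cfsg.Agent.H555.PiBS.Elem

/-!
# Nonexistence of Hall `{s,t}`-subgroups, general primes (helper464)

`|S| = s ^ a * t ^ b * m`, `s, t ∤ m`.  All conclusions: `∀ K, ¬ IsPiHall {s, t} K`; `nd_of` turns them into `¬ Dom {s, t} S`.

* `no_gl` (GL) : `Inv1 s t S`, `t ^ b` does not divide `∏ (s ^ k - 1)`, `k ≤ a`;
* `no_nc` (NC) : `Inv1 s t S`, a noncyclic elementary abelian `E` of order `t ^ 2`, small `s`-parts of `|C_S(x)|`;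
* `no_extra` (EXTRA) : `Inv1 s t S`, a `t`-subgroup `E` with `c ∈ Z(E)`, every subgroup of `E` without `c` has index
  divisible by `t ^ r` : `t ^ r ∣ s ^ k - 1`, `1 ≤ k ≤ a`; `no_extra_three` : nonabelian of order `t ^ 3`, `r = 2`;
* `no_norm` : the Sylow `t`-subgroup is normal in a Hall subgroup by counting, `s ^ a ∤ |N_S(P)|`;
* `no_ns` : the same with `|C_S(y)|`;
* `no_zc` : `|S|_t = t`, `s ∤ |N_S(⟨x⟩)|`, `t ∤ |Z(P_s)| - 1`; `no_nab` : `P_s` nonabelian.
-/

set_option autoImplicit false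

namespace Cfsg.Agent.H464.RM

open Subgroup Cfsg Cfsg.Agent.H571.DExt Cfsg.Agent.H988.CPi Cfsg.Agent.H555.RV Cfsg.Agent.Solvable.SZ
open Cfsg.Agent.H171.Odd (Inv1 not_dvd_index_map card_pgroup card_sylow card_dvd_kernel)
open Cfsg.Agent.H555.PiBS (fix_card)
open scoped Pointwise

universe u

variable {S : Type u} [Group S]

theorem nd_of {s t : ℕ} (h : ∀ K : Subgroup S, ¬ IsPiHall ({s, t} : Set ℕ) K) : ¬ Dom ({s, t} : Set ℕ) S := by
  rintro ⟨K, hK, -⟩
  exact h K hK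

/-- a Hall `{s,t}`-subgroup `K` and `Q = O_s(K)`, `C_K(Q) ≤ Q` -/
structure HQ (s t a b : ℕ) (K Q : Subgroup S) : Prop where
  card : Nat.card K = s ^ a * t ^ b
  le : Q ≤ K
  sgp : IsPGroup s Q
  nrm : K ≤ normalizer (Q : Set S)
  cen : K ⊓ centralizer (Q : Set S) ≤ Q
  hall : IsPiHall ({s, t} : Set ℕ) K

theorem exists_HQ [Finite S] {s t a b m : ℕ} (hs : s.Prime) (ht : t.Prime) (hst : s ≠ t)
    (hS : Nat.card S = s ^ a * t ^ b * m) (h2 : ¬ s ∣ m) (hm : ¬ t ∣ m) (hI : Inv1 s t S)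
    {K : Subgroup S} (hK : IsPiHall ({s, t} : Set ℕ) K) : ∃ Q : Subgroup S, HQ s t a b K Q := by
  have hcK := card_of_hall hs ht hS h2 hm hK
  have hft : Fact t.Prime := ⟨ht⟩
  have hfs : Fact s.Prime := ⟨hs⟩
  have hsol : Group.IsSolvable K := S0144.result s t a b hs ht hcK
  have hOp : pCore t K = ⊥ := by
    obtain ⟨T⟩ : Nonempty (Sylow s K) := inferInstance
    have h3 := hI ((T : Subgroup K).map K.subtype) (T.isPGroup'.map _)
      (not_dvd_index_map (by simp) hK T) ((pCore t K).map K.subtype)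
      ((Lib.Cores.pCore_isPGroup t).map _) (by
        rintro x ⟨t', -, rfl⟩
        apply mem_normalizer_fintype
        rintro y ⟨z, hz, rfl⟩
        exact ⟨t' * z * t'⁻¹, (Lib.Cores.pCore_normal t).conj_mem z hz t', by simp⟩)
    rwa [map_eq_bot_iff_of_injective _ (subtype_injective _)] at h3
  have hO2 : pPrimeCore s K = ⊥ := by
    have h3 := Lib.Cores.pPrimeCore_coprime (G := K) s
    have h4 : Nat.card (pPrimeCore s K) ∣ t ^ b := by
      have h5 : Nat.card (pPrimeCore s K) ∣ s ^ a * t ^ b := by rw [← hcK]; exact card_subgroup_dvd_card _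
      exact (Nat.Coprime.pow_right a h3).dvd_of_dvd_mul_left h5
    have h5 : IsPGroup t (pPrimeCore s K) := by
      obtain ⟨k, -, hk⟩ := (Nat.dvd_prime_pow ht).1 h4
      exact IsPGroup.of_card hk
    have h6 := Lib.Cores.le_pCore (Lib.Cores.pPrimeCore_normal s) h5
    rw [hOp] at h6
    exact le_bot_iff.1 h6
  have hC := Lib.HallHigman.centralizer_pCore_le_of_solvable (G := K) s hO2
  refine ⟨(pCore s K).map K.subtype, hcK, map_subtype_le _, (Lib.Cores.pCore_isPGroup s).map _, ?_, ?_, hK⟩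
  · intro x hx
    apply mem_normalizer_fintype
    rintro y ⟨z, hz, rfl⟩
    exact ⟨⟨x, hx⟩ * z * ⟨x, hx⟩⁻¹, (Lib.Cores.pCore_normal s).conj_mem z hz _, by simp⟩
  · rintro x ⟨hx, hxc⟩
    refine ⟨⟨x, hx⟩, hC ?_, rfl⟩
    show (⟨x, hx⟩ : K) ∈ centralizer (pCore s K : Set K)
    rw [mem_centralizer_iff]
    intro y hy
    exact Subtype.ext (mem_centralizer_iff.1 hxc (y : S) ⟨y, hy, rfl⟩)

/-- a Sylow `t`-subgroup of a Hall subgroup is a Sylow `t`-subgroup of `S`; a `t`-subgroup of `S` is conjugate into `K` -/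
theorem exists_conj_le [Finite S] {s t : ℕ} [ht : Fact t.Prime] {K : Subgroup S}
    (hK : IsPiHall ({s, t} : Set ℕ) K) {E : Subgroup S} (hE : IsPGroup t E) :
    ∃ g : S, E.map (MulAut.conj g).toMonoidHom ≤ K := by
  obtain ⟨P, hP⟩ := hE.exists_le_sylow
  obtain ⟨T⟩ : Nonempty (Sylow t K) := inferInstance
  have h1 : ¬ t ∣ ((T : Subgroup K).map K.subtype).index := not_dvd_index_map (by simp) hK T
  have h2 : IsPGroup t ((T : Subgroup K).map K.subtype) := T.isPGroup'.map _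
  obtain ⟨g, hg⟩ := MulAction.exists_smul_eq S P (h2.toSylow h1)
  refine ⟨g, ?_⟩
  have h3 : (P : Subgroup S).map (MulAut.conj g).toMonoidHom = (T : Subgroup K).map K.subtype := by
    have := congrArg (fun X : Sylow t S => (X : Subgroup S)) hg
    rw [← IsPGroup.toSylow_coe h2 h1, ← this]
    rfl
  calc E.map (MulAut.conj g).toMonoidHom ≤ (P : Subgroup S).map (MulAut.conj g).toMonoidHom := map_mono hP
    _ = (T : Subgroup K).map K.subtype := h3
    _ ≤ K := map_subtype_le _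

theorem HQ.card_Q [Finite S] {s t a b : ℕ} {K Q : Subgroup S} (h : HQ s t a b K Q) (hs : s.Prime) (ht : t.Prime)
    (hst : s ≠ t) {R : Subgroup S} (hR : R ≤ Q) : ∃ j, j ≤ a ∧ Nat.card R = s ^ j := by
  have h1 : IsPGroup s R := h.sgp.to_le hR
  have hfs : Fact s.Prime := ⟨hs⟩
  obtain ⟨j, hj⟩ := h1.exists_card_eq
  refine ⟨j, ?_, hj⟩
  have h2 : Nat.card R ∣ s ^ a * t ^ b := by rw [← h.card]; exact card_dvd_of_le (hR.trans h.le)
  rw [hj] at h2
  have h3 : s ^ j ∣ s ^ a := by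
    apply Nat.Coprime.dvd_of_dvd_mul_right _ h2
    exact Nat.Coprime.pow _ _ ((Nat.coprime_primes hs ht).2 hst)
  exact (Nat.pow_dvd_pow_iff_le_right hs.one_lt).1 h3

/-- a `t`-element of `K` which centralises `Q` is trivial -/
theorem HQ.eq_one [Finite S] {s t a b : ℕ} {K Q : Subgroup S} (h : HQ s t a b K Q) (hs : s.Prime) (ht : t.Prime)
    (hst : s ≠ t) {c : S} {l : ℕ} (hc : c ∈ K) (hl : c ^ t ^ l = 1) (hcQ : ∀ y ∈ Q, y * c = c * y) : c = 1 := by
  have h5 : c ∈ Q := h.cen ⟨hc, mem_centralizer_iff.2 fun y hy => hcQ y hy⟩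
  obtain ⟨k, hk⟩ := h.sgp ⟨c, h5⟩
  have hk : c ^ s ^ k = 1 := congrArg Subtype.val hk
  have h7 : orderOf c ∣ 1 := by
    have h8 : Nat.Coprime (s ^ k) (t ^ l) := Nat.Coprime.pow _ _ ((Nat.coprime_primes hs ht).2 hst)
    have h9 := Nat.dvd_gcd (orderOf_dvd_of_pow_eq_one hk) (orderOf_dvd_of_pow_eq_one hl)
    rwa [h8] at h9
  rwa [Nat.dvd_one, orderOf_eq_one_iff] at h7

/-! ### (GL) -/

theorem no_gl [Finite S] {s t a b m : ℕ} (hs : s.Prime) (ht : t.Prime) (hst : s ≠ t)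
    (hS : Nat.card S = s ^ a * t ^ b * m) (h2 : ¬ s ∣ m) (hm : ¬ t ∣ m) (hI : Inv1 s t S) (w : ℕ → ℕ)
    (hw : ∀ k, 1 ≤ k → k ≤ a → ¬ t ^ (w k + 1) ∣ s ^ k - 1) (hW : ∑ i ∈ Finset.range a, w (i + 1) < b)
    (K : Subgroup S) : ¬ IsPiHall ({s, t} : Set ℕ) K := by
  intro hK
  have hfs : Fact s.Prime := ⟨hs⟩
  have hft : Fact t.Prime := ⟨ht⟩
  obtain ⟨Q, h⟩ := exists_HQ hs ht hst hS h2 hm hI hK
  obtain ⟨T⟩ : Nonempty (Sylow t K) := inferInstance
  set T' : Subgroup S := (T : Subgroup K).map K.subtype with hT'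
  have hT'p : IsPGroup t T' := T.isPGroup'.map _
  have hT'K : T' ≤ K := map_subtype_le _
  have hT'i : ¬ t ∣ T'.index := not_dvd_index_map (by simp) hK T
  have hb : t ^ b ∣ Nat.card T' := card_sylow (by rw [hS]; exact ((dvd_mul_left _ _).trans (dvd_mul_right _ _))) hT'i
  have hsa : ¬ s ^ (a + 1) ∣ Nat.card S := by
    rw [hS, pow_succ, mul_assoc]
    intro h3
    have h4 := Nat.dvd_of_mul_dvd_mul_left (pow_pos hs.pos a) h3
    rcases hs.dvd_mul.1 h4 with h5 | h5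
    · exact hst ((Nat.prime_dvd_prime_iff_eq hs ht).1 (hs.dvd_of_dvd_pow h5))
    · exact h2 h5
  have hd := card_dvd_kernel (s := t) (t := s) (Ne.symm hst) hsa w hw h.sgp a T' hT'p (hT'K.trans h.nrm)
    (fun k j hk _ => by
      obtain ⟨k', hk', hk''⟩ := h.card_Q hs ht hst le_rfl
      have : k = k' := Nat.pow_right_injective hs.two_le (by show s ^ k = s ^ k'; rw [← hk, ← hk''])
      omega)
  have h3 : (T' ⊓ centralizer (Q : Set S) : Subgroup S) = ⊥ := by
    rw [eq_bot_iff]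
    rintro c ⟨hcT, hcC⟩
    obtain ⟨l, hl⟩ := hT'p ⟨c, hcT⟩
    have hl : c ^ t ^ l = 1 := congrArg Subtype.val hl
    exact mem_bot.2 (h.eq_one hs ht hst (hT'K hcT) hl fun y hy => mem_centralizer_iff.1 hcC y hy)
  rw [h3, card_bot, one_mul] at hd
  have h4 := (Nat.pow_dvd_pow_iff_le_right ht.one_lt).1 (hb.trans hd)
  omega

/-! ### (EXTRA) -/

theorem no_extra [Finite S] {s t a b m r : ℕ} (hs : s.Prime) (ht : t.Prime) (hst : s ≠ t)
    (hS : Nat.card S = s ^ a * t ^ b * m) (h2 : ¬ s ∣ m) (hm : ¬ t ∣ m) (hI : Inv1 s t S) {E : Subgroup S}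
    (hE : IsPGroup t E) {c : S} (hcE : c ∈ E) (hc1 : c ≠ 1) (hcc : ∀ x ∈ E, x * c = c * x)
    (hD : ∀ D ≤ E, c ∉ D → t ^ r ∣ D.relIndex E) (ha : ∀ k, 1 ≤ k → k ≤ a → ¬ t ^ r ∣ s ^ k - 1)
    (K : Subgroup S) : ¬ IsPiHall ({s, t} : Set ℕ) K := by
  intro hK
  have hfs : Fact s.Prime := ⟨hs⟩
  have hft : Fact t.Prime := ⟨ht⟩
  obtain ⟨Q, h⟩ := exists_HQ hs ht hst hS h2 hm hI hK
  obtain ⟨g, hg⟩ := exists_conj_le hK hE
  set φ := (MulAut.conj g).toMonoidHom with hφ
  have hφi : Function.Injective φ := (MulAut.conj g).injective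
  set P := E.map φ with hP
  have hPp : IsPGroup t P := hE.map _
  set c' := φ c with hc'
  have hcP : c' ∈ P := ⟨c, hcE, rfl⟩
  have hc1' : c' ≠ 1 := fun h3 => hc1 (hφi (by rw [map_one]; exact h3))
  have hcc' : ∀ x ∈ P, x * c' = c' * x := by
    rintro _ ⟨x, hx, rfl⟩
    rw [hc', ← map_mul, hcc x hx, map_mul]
  set R : Subgroup S := Q ⊓ centralizer {c'} with hR
  have hPR : P ≤ normalizer (R : Set S) := by
    intro x hx
    apply mem_normalizer_fintype
    rintro y ⟨hy, hyc⟩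
    refine ⟨(mem_normalizer_iff.1 (h.nrm (hg hx)) y).1 hy, ?_⟩
    show x * y * x⁻¹ ∈ centralizer {c'}
    rw [mem_centralizer_singleton_iff]
    have h1 : Commute y c' := mem_centralizer_singleton_iff.1 hyc
    have h2 : Commute x c' := hcc' x hx
    exact ((h2.mul_left h1).mul_left h2.inv_left).eq
  have h1 : t ^ r ∣ Nat.card Q - Nat.card R := by
    refine dvd_sub (P := P) (hg.trans h.nrm) hPR inf_le_left fun y hy hyR => ?_
    set D : Subgroup S := (centralizer {y} : Subgroup S).comap φ ⊓ E with hDD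
    have h3 : c ∉ D := by
      rintro ⟨h4, -⟩
      apply hyR
      refine ⟨hy, ?_⟩
      show y ∈ centralizer {c'}
      rw [mem_centralizer_singleton_iff]
      exact (mem_centralizer_singleton_iff.1 h4).symm
    have h4 := hD D inf_le_right h3
    have h5 : D.relIndex E = (centralizer {y} : Subgroup S).relIndex P := by
      rw [hDD, inf_relIndex_right, hP, ← relIndex_comap]
    rwa [h5] at h4
  obtain ⟨j, hj, hjQ⟩ := h.card_Q hs ht hst le_rfl
  obtain ⟨i, hi, hiR⟩ := h.card_Q hs ht hst (R := R) inf_le_left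
  rw [hjQ, hiR] at h1
  have hij : i < j := by
    by_contra h3
    have h4 : R = Q := eq_of_le_of_card_ge inf_le_left (by rw [hjQ, hiR]; exact Nat.pow_le_pow_right hs.pos (by omega))
    obtain ⟨l, hl⟩ := hPp ⟨c', hcP⟩
    have hl : c' ^ t ^ l = 1 := congrArg Subtype.val hl
    refine hc1' (h.eq_one hs ht hst (hg hcP) hl fun y hy => ?_)
    have h6 : y ∈ R := by rw [h4]; exact hy
    exact mem_centralizer_singleton_iff.1 h6.2
  refine ha (j - i) (by omega) (by omega) ?_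
  have h3 : s ^ j - s ^ i = s ^ i * (s ^ (j - i) - 1) := by
    rw [Nat.mul_sub, ← pow_add, mul_one]
    congr 2
    omega
  rw [h3] at h1
  exact (Nat.Coprime.pow _ _ ((Nat.coprime_primes ht hs).2 (Ne.symm hst))).dvd_of_dvd_mul_left h1

/-- a nonabelian `t`-subgroup of order `t ^ 3` -/
theorem no_extra_three [Finite S] {s t a b m : ℕ} (hs : s.Prime) (ht : t.Prime) (hst : s ≠ t)
    (hS : Nat.card S = s ^ a * t ^ b * m) (h2 : ¬ s ∣ m) (hm : ¬ t ∣ m) (hI : Inv1 s t S) {E : Subgroup S}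
    (hE : Nat.card E = t ^ 3) (hna : ∃ x ∈ E, ∃ y ∈ E, x * y ≠ y * x)
    (ha : ∀ k, 1 ≤ k → k ≤ a → ¬ t ^ 2 ∣ s ^ k - 1) (K : Subgroup S) : ¬ IsPiHall ({s, t} : Set ℕ) K := by
  have hft : Fact t.Prime := ⟨ht⟩
  have hEp : IsPGroup t E := IsPGroup.of_card hE
  have hnt : Nontrivial E := by
    rw [nontrivial_iff_ne_bot]
    rintro rfl
    rw [card_bot] at hE
    have := Nat.one_lt_pow (n := 3) (by norm_num) ht.one_lt
    omega
  have hnc := hEp.center_nontrivial
  obtain ⟨⟨⟨c, hcP⟩, hcZ⟩, hc1⟩ := exists_ne (1 : center E)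
  have hc1 : c ≠ 1 := fun h5 => hc1 (by subst h5; rfl)
  have hcc : ∀ x ∈ E, x * c = c * x := fun x hx => congrArg Subtype.val (mem_center_iff.1 hcZ ⟨x, hx⟩)
  refine no_extra (r := 2) hs ht hst hS h2 hm hI hEp hcP hc1 hcc (fun D hDE hcD => ?_) ha K
  have h2 : Nat.card D * D.relIndex E = t ^ 3 := by
    have h3 := card_inf_mul D E
    rwa [inf_eq_left.2 hDE, hE] at h3
  have h3 : Nat.card D ∣ t ^ 3 := ⟨_, h2.symm⟩
  obtain ⟨k, hk, hk2⟩ := (Nat.dvd_prime_pow ht).1 h3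
  have hk3 : k ≠ 2 := by
    rintro rfl
    exact hcD (mem_of_sq ht hE hna hcP hcc hDE hk2)
  have hk4 : k ≠ 3 := by
    rintro rfl
    have h5 : D = E := eq_of_le_of_card_ge hDE (by rw [hk2, hE])
    exact hcD (h5 ▸ hcP)
  rw [hk2] at h2
  have h4 : D.relIndex E = t ^ (3 - k) := by
    apply Nat.eq_of_mul_eq_mul_left (pow_pos ht.pos k)
    rw [h2, ← pow_add]
    congr 1
    omega
  rw [h4]
  exact pow_dvd_pow t (by omega)

/-! ### (NC) -/

theorem no_nc [Finite S] {s t a b m o : ℕ} (hs : s.Prime) (ht : t.Prime) (hst : s ≠ t)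
    (hS : Nat.card S = s ^ a * t ^ b * m) (h2 : ¬ s ∣ m) (hm : ¬ t ∣ m) (hI : Inv1 s t S) {E : Subgroup S}
    (hE : Cfsg.IsElementaryAbelian t E) (hc : Nat.card E = t ^ 2) (ho : ∀ k, 1 ≤ k → k < o → ¬ t ∣ s ^ k - 1)
    (hx : ∀ x : S, orderOf x = t → ¬ s ^ o ∣ Nat.card (centralizer ({x} : Set S)))
    (K : Subgroup S) : ¬ IsPiHall ({s, t} : Set ℕ) K := by
  intro hK
  have hfs : Fact s.Prime := ⟨hs⟩
  have hft : Fact t.Prime := ⟨ht⟩
  obtain ⟨Q, h⟩ := exists_HQ hs ht hst hS h2 hm hI hK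
  have hEp : IsPGroup t E := IsPGroup.of_card hc
  obtain ⟨g, hg⟩ := exists_conj_le hK hEp
  set φ := (MulAut.conj g).toMonoidHom with hφ
  have hφi : Function.Injective φ := (MulAut.conj g).injective
  set P := E.map φ with hP
  have hPc : Nat.card P = t ^ 2 := by rw [hP, card_map_of_injective hφi, hc]
  have hPcomm : ∀ x ∈ P, ∀ y ∈ P, x * y = y * x := by
    rintro _ ⟨x, hx', rfl⟩ _ ⟨y, hy', rfl⟩
    have := hE.1.is_comm.comm (⟨x, hx'⟩ : E) ⟨y, hy'⟩
    have h3 : x * y = y * x := congrArg Subtype.val this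
    rw [← map_mul, h3, map_mul]
  have hPt : ∀ x ∈ P, x ^ t = 1 := by
    rintro _ ⟨x, hx', rfl⟩
    rw [← map_pow, hE.2 x hx', map_one]
  have hPE : Cfsg.IsElementaryAbelian t P := ⟨⟨⟨fun x y => Subtype.ext (hPcomm _ x.2 _ y.2)⟩⟩, hPt⟩
  have hQt : ¬ t ∣ Nat.card Q := by
    obtain ⟨j, -, hj⟩ := h.card_Q hs ht hst le_rfl
    rw [hj]
    intro h3
    exact hst ((Nat.prime_dvd_prime_iff_eq ht hs).1 (ht.dvd_of_dvd_pow h3)).symm
  have hgen := SignalizersComponents.CoprimeGen.le_iSup_centralizer_ne_one hPE (by rw [hPc]) hQt (hg.trans h.nrm)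
  -- `P` centralises `C_Q(x)`
  have hcen : Q ≤ centralizer (P : Set S) := by
    refine hgen.trans (iSup_le fun x => ?_)
    obtain ⟨x, hxP, hx1⟩ := x
    have hxo : orderOf x = t := orderOf_eq_prime (hPt x hxP) hx1
    set R : Subgroup S := Q ⊓ centralizer {x} with hR
    obtain ⟨j, -, hj⟩ := h.card_Q hs ht hst (R := R) inf_le_left
    have hjo : j < o := by
      by_contra hlt
      apply hx x hxo
      have h3 : Nat.card R ∣ Nat.card (centralizer ({x} : Set S)) := card_dvd_of_le inf_le_right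
      rw [hj] at h3
      exact (pow_dvd_pow s (by omega)).trans h3
    -- the action of `y` on `R`
    intro r hr
    rw [mem_centralizer_iff]
    intro y hy
    have hyR : y ∈ normalizer (R : Set S) := by
      apply mem_normalizer_fintype
      rintro z ⟨hz, hzx⟩
      refine ⟨(mem_normalizer_iff.1 (h.nrm (hg hy)) z).1 hz, ?_⟩
      show y * z * y⁻¹ ∈ centralizer {x}
      rw [mem_centralizer_singleton_iff]
      have h1 : Commute z x := mem_centralizer_singleton_iff.1 hzx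
      have h2 : Commute y x := hPcomm y hy x hxP
      exact ((h2.mul_left h1).mul_left h2.inv_left).eq
    have h3 := fix_card ht (hPt y hy) R hyR
    obtain ⟨i, -, hi⟩ := h.card_Q hs ht hst (R := (R ⊓ centralizer {y} : Subgroup S)) (inf_le_left.trans inf_le_left)
    rw [hj, hi] at h3
    have hij : i ≤ j := by
      have h4 : Nat.card (R ⊓ centralizer {y} : Subgroup S) ≤ Nat.card R := card_le_of_le inf_le_left
      rw [hj, hi] at h4
      exact (Nat.pow_le_pow_iff_right hs.one_lt).1 h4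
    have h5 : i = j := by
      by_contra hne
      have h6 : t ∣ s ^ j - s ^ i := by
        rcases Nat.le_total (s ^ i) (s ^ j) with h7 | h7
        · first
          | exact (Nat.modEq_iff_dvd' h7).1 h3.symm
          | exact (Nat.modEq_iff_dvd' h7).1 h3
        · rw [Nat.sub_eq_zero_of_le h7]; exact dvd_zero t
      have h7 : s ^ j - s ^ i = s ^ i * (s ^ (j - i) - 1) := by
        rw [Nat.mul_sub, ← pow_add, mul_one]
        congr 2
        omega
      rw [h7] at h6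
      exact ho (j - i) (by omega) (by omega)
        ((Nat.Coprime.pow_right _ ((Nat.coprime_primes ht hs).2 (Ne.symm hst))).dvd_of_dvd_mul_left h6)
    have h6 : (R ⊓ centralizer {y} : Subgroup S) = R := eq_of_le_of_card_ge inf_le_left (by rw [hi, hj, h5])
    have h7 : r ∈ (R ⊓ centralizer {y} : Subgroup S) := by rw [h6]; exact hr
    exact (mem_centralizer_singleton_iff.1 h7.2).symm
  have h3 : P = ⊥ := by
    rw [eq_bot_iff]
    intro c hcP
    have hl : c ^ t ^ 1 = 1 := by rw [pow_one]; exact hPt c hcP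
    exact mem_bot.2 (h.eq_one hs ht hst (hg hcP) hl fun y hy => (mem_centralizer_iff.1 (hcen hy) c hcP).symm)
  rw [h3, card_bot] at hPc
  have := Nat.one_lt_pow (n := 2) (by norm_num) ht.one_lt
  omega

/-! ### a normal Sylow `t`-subgroup -/

/-- the Sylow `t`-subgroup of a Hall subgroup is normal by counting -/
theorem normal_of_count [Finite S] {s t a b : ℕ} (hs : s.Prime) [ht : Fact t.Prime] {K : Subgroup S}
    (hcK : Nat.card K = s ^ a * t ^ b) (hn : ∀ k, 1 ≤ k → k ≤ a → ¬ t ∣ s ^ k - 1) (T : Sylow t K) :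
    (T : Subgroup K).Normal := by
  have h0 : Nat.card (Sylow t K) = (normalizer ((T : Subgroup K) : Set K)).index :=
    Sylow.card_eq_index_normalizer T
  rw [← normalizer_eq_top_iff, ← index_eq_one, ← h0]
  have h1 : Nat.card (Sylow t K) ≡ 1 [MOD t] := card_sylow_modEq_one t K
  have h2 : Nat.card (Sylow t K) ∣ (T : Subgroup K).index := T.card_dvd_index
  have h3 : ¬ t ∣ (T : Subgroup K).index := T.not_dvd_index
  have h4 : Nat.card (Sylow t K) ∣ s ^ a := by
    have h5 : Nat.card (Sylow t K) ∣ s ^ a * t ^ b := by rw [← hcK]; exact h2.trans (index_dvd_card _)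
    refine Nat.Coprime.dvd_of_dvd_mul_right (Nat.Coprime.pow_right _ ?_) h5
    rw [Nat.coprime_comm, ht.out.coprime_iff_not_dvd]
    exact fun h => h3 (h.trans h2)
  obtain ⟨i, hi, h5⟩ := (Nat.dvd_prime_pow hs).1 h4
  rw [h5] at h1 ⊢
  rcases Nat.eq_zero_or_pos i with h6 | h6
  · rw [h6, pow_zero]
  · exfalso
    exact hn i h6 hi ((Nat.modEq_iff_dvd' (Nat.one_le_pow _ _ hs.pos)).mp h1.symm)

theorem no_norm [Finite S] {s t a b m : ℕ} (hs : s.Prime) (ht : t.Prime)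
    (hS : Nat.card S = s ^ a * t ^ b * m) (h2 : ¬ s ∣ m) (hm : ¬ t ∣ m)
    (hn : ∀ k, 1 ≤ k → k ≤ a → ¬ t ∣ s ^ k - 1)
    (hN : ∀ P : Subgroup S, IsPGroup t P → ¬ t ∣ P.index → ¬ s ^ a ∣ Nat.card (normalizer (P : Set S)))
    (K : Subgroup S) : ¬ IsPiHall ({s, t} : Set ℕ) K := by
  intro hK
  have hft : Fact t.Prime := ⟨ht⟩
  have hcK := card_of_hall hs ht hS h2 hm hK
  obtain ⟨T⟩ : Nonempty (Sylow t K) := inferInstance
  have hTn := normal_of_count hs hcK hn T
  refine hN ((T : Subgroup K).map K.subtype) (T.isPGroup'.map _) (not_dvd_index_map (by simp) hK T) ?_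
  have h1 : K ≤ normalizer (((T : Subgroup K).map K.subtype : Subgroup S) : Set S) := by
    intro x hx
    apply mem_normalizer_fintype
    rintro y ⟨z, hz, rfl⟩
    exact ⟨⟨x, hx⟩ * z * ⟨x, hx⟩⁻¹, hTn.conj_mem z hz _, by simp⟩
  have h3 := card_dvd_of_le h1
  rw [hcK] at h3
  exact (dvd_mul_right _ _).trans h3

theorem no_ns [Finite S] {s t a b m c : ℕ} (hs : s.Prime) (ht : t.Prime) (hst : s ≠ t)
    (hS : Nat.card S = s ^ a * t ^ b * m) (h2 : ¬ s ∣ m) (hm : ¬ t ∣ m)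
    (hn : ∀ k, 1 ≤ k → k ≤ a → ¬ t ∣ s ^ k - 1) (w : ℕ → ℕ)
    (hw : ∀ k, 1 ≤ k → k ≤ b → ¬ s ^ (w k + 1) ∣ t ^ k - 1) (hW : c + ∑ i ∈ Finset.range b, w (i + 1) ≤ a)
    {y : S} {l : ℕ} (hy : y ^ t ^ l = 1) (hcy : ¬ s ^ c ∣ Nat.card (centralizer ({y} : Set S)))
    (K : Subgroup S) : ¬ IsPiHall ({s, t} : Set ℕ) K := by
  intro hK
  have hft : Fact t.Prime := ⟨ht⟩
  have hfs : Fact s.Prime := ⟨hs⟩
  have hcK := card_of_hall hs ht hS h2 hm hK
  obtain ⟨T⟩ : Nonempty (Sylow t K) := inferInstance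
  have hTn := normal_of_count hs hcK hn T
  set T' : Subgroup S := (T : Subgroup K).map K.subtype with hT'
  have hT'i : ¬ t ∣ T'.index := not_dvd_index_map (by simp) hK T
  have hT'p : IsPGroup t T' := T.isPGroup'.map _
  have h1 : K ≤ normalizer (T' : Set S) := by
    intro x hx
    apply mem_normalizer_fintype
    rintro y ⟨z, hz, rfl⟩
    exact ⟨⟨x, hx⟩ * z * ⟨x, hx⟩⁻¹, hTn.conj_mem z hz _, by simp⟩
  obtain ⟨P⟩ : Nonempty (Sylow s K) := inferInstance
  set P' : Subgroup S := (P : Subgroup K).map K.subtype with hP'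
  have hP'i : ¬ s ∣ P'.index := not_dvd_index_map (by simp) hK P
  have hP'p : IsPGroup s P' := P.isPGroup'.map _
  have hP'K : P' ≤ K := map_subtype_le _
  have hsa : s ^ a ∣ Nat.card P' := card_sylow (by rw [hS]; exact ((dvd_mul_right _ _).trans (dvd_mul_right _ _))) hP'i
  have htb : ¬ t ^ (b + 1) ∣ Nat.card S := by
    rw [hS, show s ^ a * t ^ b * m = t ^ b * (s ^ a * m) by ring, pow_succ]
    intro h3
    have h4 := Nat.dvd_of_mul_dvd_mul_left (pow_pos ht.pos b) h3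
    rcases ht.dvd_mul.1 h4 with h5 | h5
    · exact hst ((Nat.prime_dvd_prime_iff_eq ht hs).1 (ht.dvd_of_dvd_pow h5)).symm
    · exact hm h5
  have hd := card_dvd_kernel (s := s) (t := t) hst htb w hw hT'p b P' hP'p (hP'K.trans h1)
    (fun k j hk _ => by
      obtain ⟨k', hk', hk''⟩ := card_pgroup htb hT'p
      have : k = k' := Nat.pow_right_injective ht.two_le (by show t ^ k = t ^ k'; rw [← hk, ← hk''])
      omega)
  -- a conjugate of `y` in `T'`
  have hyp : IsPGroup t (zpowers y) := by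
    rw [IsPGroup.iff_card]
    rw [Nat.card_zpowers]
    obtain ⟨j, -, hj⟩ := (Nat.dvd_prime_pow ht).1 (orderOf_dvd_of_pow_eq_one hy)
    exact ⟨j, hj⟩
  obtain ⟨Y, hY⟩ := hyp.exists_le_sylow
  obtain ⟨g, hg⟩ := MulAction.exists_smul_eq S Y (hT'p.toSylow hT'i)
  have hyT : g * y * g⁻¹ ∈ T' := by
    have h3 : (Y : Subgroup S).map (MulAut.conj g).toMonoidHom = T' := by
      have := congrArg (fun X : Sylow t S => (X : Subgroup S)) hg
      rw [← IsPGroup.toSylow_coe hT'p hT'i, ← this]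
      rfl
    rw [← h3]
    exact ⟨y, hY (mem_zpowers y), rfl⟩
  have h4 : Nat.card ↥(P' ⊓ centralizer (T' : Set S)) ∣ Nat.card (centralizer ({y} : Set S)) := by
    rw [← cent_conj_card (x := y) (g := g)]
    apply card_dvd_of_le
    intro z hz
    rw [mem_centralizer_singleton_iff]
    exact (mem_centralizer_iff.1 hz.2 _ hyT).symm
  apply hcy
  have h5 := (hsa.trans hd).trans (Nat.mul_dvd_mul_right h4 _)
  have h6 : s ^ c * s ^ (∑ i ∈ Finset.range b, w (i + 1)) ∣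
      Nat.card (centralizer ({y} : Set S)) * s ^ (∑ i ∈ Finset.range b, w (i + 1)) := by
    rw [← pow_add]
    exact (pow_dvd_pow s hW).trans h5
  exact Nat.dvd_of_mul_dvd_mul_right (pow_pos hs.pos _) h6

end Cfsg.Agent.H464.RM
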