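import Cfsg.Agent.H464.RM.ZTAct
import Cfsg.Agent.H464.RM.Tools
import Cfsg.Agent.H171.RV.TwoP

/-!
# Groups of order `2^a t^b` with a unique central involution in the Sylow 2-subgroup (helper464, after helper171)

`no_ztp` : `|S| = 2 ^ a * t ^ b * m`, the Sylow 2-subgroups have a unique central involution `z` (`ZT S M`), `t ^ b ∤ |C(z)|`,
`2 ^ a ∤ |GL_b(t)|` and `t ∤ 2 ^ n - 1` for `n ≤ 2 ^ j ∣ t - 1` : no Hall `{2,t}`-subgroup.
`no_ztp'` : with a numerical check.
-/

set_option autoImplicit false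

namespace Cfsg.Agent.H464.RM

open Subgroup Cfsg Cfsg.Agent.H571.DExt Cfsg.Agent.H988.CPi Cfsg.Agent.Solvable.SZ
open Cfsg.Agent.H171.Odd (Inv1 not_dvd_index_map card_pgroup card_sylow card_dvd_kernel)
open Cfsg.Agent.H171.RV.TwoP (ZT)

universe u

theorem ztp_main {K : Type u} [Group K] [Finite K] {t a b : ℕ} (ht : t.Prime) (ht2 : t ≠ 2)
    (hK : Nat.card K = 2 ^ a * t ^ b) {T : Subgroup K} (hT : Nat.card T = 2 ^ a) {z : K} (hzT : z ∈ T) (hz1 : z ≠ 1)
    (hzz : z * z = 1) (hzc : ∀ t ∈ T, t * z = z * t)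
    (huniq : ∀ w ∈ T, w * w = 1 → (∀ t ∈ T, t * w = w * t) → w = 1 ∨ w = z)
    (w : ℕ → ℕ) (hw : ∀ k, 1 ≤ k → k ≤ b → ¬ 2 ^ (w k + 1) ∣ t ^ k - 1)
    (hW : ∑ i ∈ Finset.range b, w (i + 1) < a) (hcz : ¬ t ^ b ∣ Nat.card (centralizer ({z} : Set K))) :
    ∃ n j : ℕ, 1 ≤ n ∧ n ≤ 2 ^ j ∧ 2 ^ j ∣ t - 1 ∧ t ∣ 2 ^ n - 1 := by
  have hF : Fact (Nat.Prime 2) := ⟨Nat.prime_two⟩
  have hFp : Fact t.Prime := ⟨ht⟩
  have hsol : Group.IsSolvable K := S0144.result 2 t a b Nat.prime_two ht hK
  have hTp : IsPGroup 2 T := IsPGroup.of_card hT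
  have hTidx : T.index = t ^ b := by
    have h1 := T.card_mul_index
    rw [hT, hK] at h1
    exact Nat.eq_of_mul_eq_mul_left (by positivity) h1
  have hTi : ¬ 2 ∣ T.index := by
    rw [hTidx]
    exact fun h => ht2 ((Nat.prime_dvd_prime_iff_eq Nat.prime_two ht).1 (Nat.prime_two.dvd_of_dvd_pow h)).symm
  set N := T.normalCore with hN
  have hNT : N ≤ T := Subgroup.normalCore_le T
  have hNN : N.Normal := inferInstance
  -- normal 2-subgroups
  have hmax : ∀ M : Subgroup K, M.Normal → IsPGroup 2 M → M ≤ N := by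
    intro M hM hMp
    refine Subgroup.normal_le_normalCore.mpr ?_
    have h1 : IsPGroup 2 (T ⊔ M : Subgroup K) := hTp.to_sup_of_normal_right hMp
    have h2 : (T ⊔ M : Subgroup K) = T := by
      have h3 := (hTp.toSylow hTi).is_maximal' h1 (by rw [IsPGroup.toSylow_coe]; exact le_sup_left)
      rw [IsPGroup.toSylow_coe] at h3
      exact h3
    rw [← h2]
    exact le_sup_right
  have hN1 : N ≠ ⊥ := by
    intro hNb
    have hOt : pPrimeCore t K = ⊥ := by
      have h3 := Lib.Cores.pPrimeCore_coprime (G := K) t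
      have h4 : Nat.card (pPrimeCore t K) ∣ 2 ^ a := by
        have h5 : Nat.card (pPrimeCore t K) ∣ 2 ^ a * t ^ b := by rw [← hK]; exact card_subgroup_dvd_card _
        exact (Nat.Coprime.pow_right b h3).dvd_of_dvd_mul_right h5
      have h5 : IsPGroup 2 (pPrimeCore t K) := by
        obtain ⟨k, -, hk⟩ := (Nat.dvd_prime_pow Nat.prime_two).1 h4
        exact IsPGroup.of_card hk
      have h6 := hmax _ (Lib.Cores.pPrimeCore_normal t) h5
      rw [hNb] at h6
      exact le_bot_iff.1 h6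
    have hC := Lib.HallHigman.centralizer_pCore_le_of_solvable (G := K) t hOt
    have hRp : IsPGroup t (pCore t K) := Lib.Cores.pCore_isPGroup t
    have hRn : (pCore t K).Normal := Lib.Cores.pCore_normal t
    have htb : ¬ t ^ (b + 1) ∣ Nat.card K := by
      rw [hK, pow_succ, mul_comm (2 ^ a)]
      intro h3
      have h4 := Nat.dvd_of_mul_dvd_mul_left (pow_pos ht.pos b) h3
      exact ht2 ((Nat.prime_dvd_prime_iff_eq ht Nat.prime_two).1 (ht.dvd_of_dvd_pow h4))
    have hd := card_dvd_kernel (s := 2) (t := t) (Ne.symm ht2) htb w hw hRp b T hTp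
      (by rw [normalizer_eq_top]; exact le_top)
      (fun k j hk _ => by
        obtain ⟨k', hk', hk''⟩ := card_pgroup htb hRp
        have : k = k' := Nat.pow_right_injective ht.two_le (by show t ^ k = t ^ k'; rw [← hk, ← hk''])
        omega)
    have h3 : (T ⊓ centralizer (pCore t K : Set K) : Subgroup K) = ⊥ := by
      rw [eq_bot_iff]
      refine le_trans (inf_le_inf le_rfl hC) ?_
      have h4 : Nat.Coprime (Nat.card T) (Nat.card (pCore t K)) := by
        obtain ⟨k, hk⟩ := hRp.exists_card_eq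
        rw [hT, hk]
        exact Nat.Coprime.pow _ _ ((Nat.coprime_primes Nat.prime_two ht).2 (Ne.symm ht2))
      rw [(Subgroup.disjoint_of_coprime_natCard h4).eq_bot]
    rw [h3, card_bot, one_mul, hT] at hd
    have h4 := (Nat.pow_dvd_pow_iff_le_right (by norm_num : 1 < 2)).1 hd
    omega
  -- `z ∈ N`
  have hzN : z ∈ N := by
    have hnil : Group.IsNilpotent T := hTp.isNilpotent
    have h1 : (N.subgroupOf T) ≠ ⊥ := by
      intro h
      apply hN1
      rw [subgroupOf_eq_bot] at h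
      rw [eq_bot_iff]
      intro x hx
      exact h.le_bot ⟨hx, hNT hx⟩
    have h2 := Cfsg.Agent.Lib.NormalAbelian.normal_inf_center_ne_bot (N.subgroupOf T) h1
    set W : Subgroup T := N.subgroupOf T ⊓ center T with hW
    have hWp : IsPGroup 2 W := hTp.to_subgroup W
    obtain ⟨k, hk⟩ := hWp.exists_card_eq
    have hk0 : k ≠ 0 := by
      rintro rfl
      rw [pow_zero] at hk
      exact h2 (Subgroup.eq_bot_of_card_eq W hk)
    obtain ⟨w, hw⟩ := exists_prime_orderOf_dvd_card' (G := W) 2 (by rw [hk]; exact dvd_pow_self 2 hk0)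
    have hw2 : ((w : T) : K) * ((w : T) : K) = 1 := by
      have h3 : w ^ 2 = 1 := by rw [← hw]; exact pow_orderOf_eq_one w
      rw [pow_two] at h3
      exact congrArg (fun y : W => ((y : T) : K)) h3
    have hw1 : ((w : T) : K) ≠ 1 := by
      intro h3
      have h4 : w = 1 := Subtype.ext (Subtype.ext h3)
      rw [h4, orderOf_one] at hw
      norm_num at hw
    have hwN : ((w : T) : K) ∈ N := mem_subgroupOf.mp (mem_inf.mp w.2).1
    have hwc : ∀ t ∈ T, t * ((w : T) : K) = ((w : T) : K) * t := by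
      intro y hy
      have h3 := mem_center_iff.mp (mem_inf.mp w.2).2 ⟨y, hy⟩
      exact congrArg Subtype.val h3
    rcases huniq _ (w : T).2 hw2 hwc with h3 | h3
    · exact absurd h3 hw1
    · rw [← h3]; exact hwN
  -- the elementary abelian normal subgroup
  let E : Subgroup K :=
    { carrier := {v | v ∈ N ∧ (∀ n ∈ N, n * v = v * n) ∧ v * v = 1}
      mul_mem' := by
        rintro v w ⟨hv, hv1, hv2⟩ ⟨hw, hw1, hw2⟩
        refine ⟨N.mul_mem hv hw, fun n hn => ?_, ?_⟩
        · calc n * (v * w) = (n * v) * w := by group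
            _ = v * (n * w) := by rw [hv1 n hn]; group
            _ = v * w * n := by rw [hw1 n hn]; group
        · calc v * w * (v * w) = v * (w * v) * w := by group
            _ = v * (v * w) * w := by rw [hv1 w hw]
            _ = (v * v) * (w * w) := by group
            _ = 1 := by rw [hv2, hw2, one_mul]
      one_mem' := ⟨N.one_mem, fun n _ => by rw [mul_one, one_mul], one_mul 1⟩
      inv_mem' := by
        rintro v ⟨hv, hv1, hv2⟩
        have h1 : v⁻¹ = v := by rw [inv_eq_iff_mul_eq_one, hv2]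
        rw [h1]
        exact ⟨hv, hv1, hv2⟩ }
  have hEn : E.Normal := by
    refine ⟨?_⟩
    rintro v ⟨hv, hv1, hv2⟩ g
    refine ⟨hNN.conj_mem v hv g, fun n hn => ?_, ?_⟩
    · have h1 := hv1 (g⁻¹ * n * g) (by simpa using hNN.conj_mem n hn g⁻¹)
      calc n * (g * v * g⁻¹) = g * ((g⁻¹ * n * g) * v) * g⁻¹ := by group
        _ = g * (v * (g⁻¹ * n * g)) * g⁻¹ := by rw [h1]
        _ = _ := by group
    · calc g * v * g⁻¹ * (g * v * g⁻¹) = g * (v * v) * g⁻¹ := by group
        _ = 1 := by rw [hv2]; group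
  set V := normalClosure ({z} : Set K) with hV
  have hVE : V ≤ E := Subgroup.normalClosure_le_normal (by
    rw [Set.singleton_subset_iff]
    exact ⟨hzN, fun n hn => hzc n (hNT hn), hzz⟩)
  have hVN : V ≤ N := fun v hv => (hVE hv).1
  have hVn : V.Normal := inferInstance
  have hzV : z ∈ V := Subgroup.subset_normalClosure rfl
  have hab : ∀ v ∈ V, ∀ w ∈ V, v * w = w * v := fun v hv w hw => (hVE hw).2.1 v (hVN hv)
  have hsq : ∀ v ∈ V, v * v = 1 := fun v hv => (hVE hv).2.2
  let _ : CommGroup V := { (inferInstance : Group V) with mul_comm := fun v w => Subtype.ext (hab v v.2 w w.2) }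
  let ρ : K →* MulAut V := MulAut.conjNormal
  have hρ : ∀ (x : K) (v : V), ((ρ x v : V) : K) = x * v * x⁻¹ := fun x v => rfl
  have hsolr : Group.IsSolvable ρ.range := Group.isSolvable_of_surjective ρ.rangeRestrict_surjective
  have key := ZTAct.act_main (G := ρ.range) (W := V) ρ.range.subtype ht ht2 (fun v => Subtype.ext (hsq v v.2))
    (subtype_injective _) (hsolr) (fun p hp hd => ?_) (T := T.map ρ.rangeRestrict) (hTp.map _) ?_
    (z := ⟨z, hzV⟩) ?_ ?_ ?_ ?_
  · exact key
  · have h1 : p ∣ 2 ^ a * t ^ b := by rw [← hK]; exact hd.trans (card_range_dvd ρ)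
    rcases hp.dvd_mul.1 h1 with h | h
    · exact Or.inl ((Nat.prime_dvd_prime_iff_eq hp Nat.prime_two).1 (hp.dvd_of_dvd_pow h))
    · exact Or.inr ((Nat.prime_dvd_prime_iff_eq hp ht).1 (hp.dvd_of_dvd_pow h))
  · intro h
    exact hTi (h.trans (index_map_dvd T ρ.rangeRestrict_surjective))
  · rintro _ ⟨x, hx, rfl⟩
    apply Subtype.ext
    show x * z * x⁻¹ = z
    rw [hzc x hx, mul_inv_cancel_right]
  · intro v hv
    have h1 : ∀ x ∈ T, x * (v : K) = v * x := by
      intro x hx
      have h2 := congrArg Subtype.val (hv (ρ.rangeRestrict x) ⟨x, hx, rfl⟩)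
      have h3 : x * (v : K) * x⁻¹ = v := h2
      exact mul_inv_eq_iff_eq_mul.1 h3
    rcases huniq v (hNT (hVN v.2)) (hsq v v.2) h1 with h | h
    · exact Or.inl (Subtype.ext h)
    · exact Or.inr (Subtype.ext h)
  · intro U hzU hinv
    have h1 : (U.map V.subtype).Normal := by
      refine ⟨?_⟩
      rintro _ ⟨v, hv, rfl⟩ g
      exact ⟨_, hinv (ρ.rangeRestrict g) v hv, rfl⟩
    have h2 : V ≤ U.map V.subtype := Subgroup.normalClosure_le_normal (by
      rw [Set.singleton_subset_iff]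
      exact ⟨_, hzU, rfl⟩)
    rw [eq_top_iff]
    intro v _
    obtain ⟨v', hv', h3⟩ := h2 v.2
    have : v' = v := Subtype.ext h3
    rwa [← this]
  · by_contra hcon
    push Not at hcon
    apply hcz
    have h1 : centralizer ({z} : Set K) = ⊤ := by
      rw [eq_top_iff]
      intro x _
      rw [mem_centralizer_singleton_iff]
      have h2 : x * z * x⁻¹ = z := congrArg Subtype.val (hcon (ρ.rangeRestrict x))
      exact mul_inv_eq_iff_eq_mul.1 h2
    rw [h1, card_top, hK]
    exact dvd_mul_left _ _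

variable {S : Type u} [Group S] [Finite S]

/-- **(ZTP)** no Hall `{2,t}`-subgroup -/
theorem no_ztp {M t a b m : ℕ} (hZ : ZT S M) (ht : t.Prime) (ht2 : t ≠ 2) (hS : Nat.card S = 2 ^ a * t ^ b * m)
    (h2 : ¬ 2 ∣ m) (hm : ¬ t ∣ m) (hM : ¬ t ^ b ∣ M)
    (w : ℕ → ℕ) (hw : ∀ k, 1 ≤ k → k ≤ b → ¬ 2 ^ (w k + 1) ∣ t ^ k - 1)
    (hW : ∑ i ∈ Finset.range b, w (i + 1) < a)
    (hnum : ∀ n j : ℕ, 1 ≤ n → n ≤ 2 ^ j → 2 ^ j ∣ t - 1 → ¬ t ∣ 2 ^ n - 1)
    (K : Subgroup S) : ¬ IsPiHall ({2, t} : Set ℕ) K := by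
  intro hK
  have hF : Fact (Nat.Prime 2) := ⟨Nat.prime_two⟩
  have hFp : Fact t.Prime := ⟨ht⟩
  obtain ⟨T, z, hTp, hTi, hzT, hz1, hzz, hzc, huniq, hMd⟩ := hZ
  have hcK := card_of_hall Nat.prime_two ht hS h2 hm hK
  have hn : ¬ 2 ∣ t ^ b * m := by
    intro h
    rcases Nat.prime_two.dvd_mul.1 h with h | h
    · exact ht2 ((Nat.prime_dvd_prime_iff_eq Nat.prime_two ht).1 (Nat.prime_two.dvd_of_dvd_pow h)).symm
    · exact h2 h
  have hTc : Nat.card T = 2 ^ a := by
    have h1 := H555.RV.card_sylow_of (hTp.toSylow hTi) (b := a) (n := t ^ b * m) (by rw [hS]; ring) hn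
    rwa [IsPGroup.toSylow_coe] at h1
  -- a conjugate of `T` in `K`
  obtain ⟨g, hg⟩ := exists_conj_le (s := t) (t := 2) (by rw [Set.pair_comm]; exact hK) hTp
  set φ := (MulAut.conj g).toMonoidHom with hφ
  have hφi : Function.Injective φ := (MulAut.conj g).injective
  have hφc : ∀ x ∈ T, φ x ∈ K := fun x hx => hg ⟨x, hx, rfl⟩
  set T1 : Subgroup S := T.map φ with hT1
  set T2 : Subgroup K := T1.subgroupOf K with hT2
  have hT2c : Nat.card T2 = 2 ^ a := by
    rw [hT2, Nat.card_congr (subgroupOfEquivOfLe hg).toEquiv, hT1, card_map_of_injective hφi, hTc]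
  have hdv : Nat.card (centralizer ({⟨φ z, hφc z hzT⟩} : Set K)) ∣ Nat.card (centralizer ({z} : Set S)) := by
    have h7 : (centralizer ({⟨φ z, hφc z hzT⟩} : Set K)).map K.subtype ≤ centralizer ({φ z} : Set S) := by
      rintro _ ⟨x, hx, rfl⟩
      rw [mem_centralizer_singleton_iff]
      exact congrArg Subtype.val (mem_centralizer_singleton_iff.mp hx)
    have h8 := card_dvd_of_le h7
    rw [card_map_of_injective K.subtype_injective] at h8
    have h9 : Nat.card (centralizer ({φ z} : Set S)) = Nat.card (centralizer ({z} : Set S)) :=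
      H555.RV.cent_conj_card (x := z) (g := g)
    rwa [h9] at h8
  obtain ⟨n, j, h3, h4, h5, h6⟩ := ztp_main (K := K) ht ht2 hcK (T := T2) hT2c (z := ⟨φ z, hφc z hzT⟩)
    (mem_subgroupOf.2 ⟨z, hzT, rfl⟩)
    (fun h => hz1 (hφi (by rw [map_one]; exact congrArg Subtype.val h)))
    (Subtype.ext (by show φ z * φ z = 1; rw [← map_mul, hzz, map_one]))
    (by
      rintro ⟨_, hxK⟩ ⟨x, hx, rfl⟩
      apply Subtype.ext
      show φ x * φ z = φ z * φ x
      rw [← map_mul, hzc x hx, map_mul])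
    (by
      rintro ⟨_, hxK⟩ ⟨x, hx, rfl⟩ hww hwc
      have h7 : φ x * φ x = 1 := congrArg Subtype.val hww
      rw [← map_mul] at h7
      rcases huniq x hx (hφi (by rw [h7, map_one])) (fun y hy => by
        have h8 : φ y * φ x = φ x * φ y :=
          congrArg Subtype.val (hwc ⟨φ y, hφc y hy⟩ (mem_subgroupOf.2 ⟨y, hy, rfl⟩))
        rw [← map_mul, ← map_mul] at h8
        exact hφi h8) with h | h
      · left
        apply Subtype.ext
        show φ x = 1
        rw [h, map_one]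
      · right
        apply Subtype.ext
        show φ x = φ z
        rw [h])
    w hw hW (fun hd => hM ((hd.trans hdv).trans hMd))
  exact hnum n j h3 h4 h5 h6

/-- the numerical check : `2 ^ a ∤ |GL_b(t)|` -/
def zchk (t a b : ℕ) : Bool :=
  decide (t < 32) && decide (t ^ b < 2 ^ 99) && decide (∑ i ∈ Finset.range b, vv 2 100 (t ^ (i + 1) - 1) < a) &&
    (List.range 5).all fun j => (t - 1) % 2 ^ j != 0 || (List.range 17).all fun n =>
      n == 0 || !decide (n ≤ 2 ^ j) || (2 ^ n - 1) % t != 0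

theorem no_ztp' {M t a b m : ℕ} (hZ : ZT S M) (ht : t.Prime) (ht2 : t ≠ 2) (hS : Nat.card S = 2 ^ a * t ^ b * m)
    (h2 : ¬ 2 ∣ m) (hm : ¬ t ∣ m) (hM : ¬ t ^ b ∣ M) (hchk : zchk t a b = true)
    (K : Subgroup S) : ¬ IsPiHall ({2, t} : Set ℕ) K := by
  unfold zchk at hchk
  simp only [Bool.and_eq_true] at hchk
  obtain ⟨⟨⟨h3, h4⟩, h5⟩, h6⟩ := hchk
  have h3 := of_decide_eq_true h3
  have h4 := of_decide_eq_true h4
  have h5 := of_decide_eq_true h5
  refine no_ztp hZ ht ht2 hS h2 hm hM (fun k => vv 2 100 (t ^ k - 1)) (fun k hk1 hk2 => ?_) ?_ ?_ K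
  · refine (vv_spec (by norm_num) 100 (t ^ k - 1) ?_ ?_).2
    · have := Nat.one_lt_pow (n := k) (by omega) ht.one_lt
      omega
    · have h7 : t ^ k ≤ t ^ b := Nat.pow_le_pow_right ht.pos hk2
      have h8 : (2 : ℕ) ^ 99 ≤ 2 ^ 100 := by norm_num
      omega
  · exact h5
  · intro n j hn1 hn2 hj hd
    have hj5 : j < 5 := by
      by_contra hcon
      have h7 : 2 ^ 5 ∣ t - 1 := (pow_dvd_pow 2 (by omega)).trans hj
      have := ht.one_lt
      have h8 := Nat.le_of_dvd (by omega) h7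
      omega
    have hn17 : n < 17 := by
      have : 2 ^ j ≤ 2 ^ 4 := Nat.pow_le_pow_right (by norm_num) (by omega)
      omega
    have h7 := List.all_eq_true.1 h6 j (List.mem_range.2 hj5)
    simp only [Bool.or_eq_true, bne_iff_ne, ne_eq] at h7
    rcases h7 with h7 | h7
    · exact h7 (Nat.mod_eq_zero_of_dvd hj)
    · have h8 := List.all_eq_true.1 h7 n (List.mem_range.2 hn17)
      simp only [Bool.or_eq_true, bne_iff_ne, ne_eq, beq_iff_eq, Bool.not_eq_true', decide_eq_false_iff_not] at h8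
      rcases h8 with (h8 | h8) | h8
      · omega
      · exact h8 hn2
      · exact h8 (Nat.mod_eq_zero_of_dvd hd)

example : zchk 7 21 2 = true := by decide +kernel
example : zchk 7 46 6 = true := by decide +kernel
example : zchk 11 46 2 = true := by decide +kernel
example : zchk 13 46 3 = true := by decide +kernel
example : zchk 13 41 1 = true := by decide +kernel
example : zchk 31 21 1 = true := by decide +kernel

end Cfsg.Agent.H464.RM
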