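import Cfsg.Agent.H464.RM.Tools

/-!
# Nonexistence of Hall `{s,t}`-subgroups, `|S|_t = t` (helper464)

`|S| = s ^ a * t * m`.  All conclusions `∀ K, ¬ IsPiHall {s, t} K`.

* `frob_of` : `s ∤ |N_S(⟨x⟩)|` (`x` of order `t`) : a Hall subgroup is `Q ⋊ ⟨x⟩` with `C_Q(x) = 1`;
* `no_zc` : then `t ∣ |Z(Q)| - 1`, `Q` a Sylow `s`-subgroup;
* `no_nab` : a nonabelian `s`-subgroup, `t ∤ s ^ k - 1` for `1 ≤ k < a`;
* `sylow_of_inv` : `Inv1 s t S`, `s ∤ t - 1` : a Hall subgroup has a normal Sylow `s`-subgroup;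
* `no_snorm` : then a Sylow `s`-subgroup has normalizer of order divisible by `t`;
* `no_zn` : `|Z(P)| = s ^ c`, `t ∤ s ^ k - 1` (`1 ≤ k ≤ c`), `s ^ c ∤ |C_S(x)|`.
-/

set_option autoImplicit false

namespace Cfsg.Agent.H464.RM

open Subgroup Cfsg Cfsg.Agent.H571.DExt Cfsg.Agent.H988.CPi Cfsg.Agent.H555.RV Cfsg.Agent.Solvable.SZ
open Cfsg.Agent.H171.Odd (Inv1 not_dvd_index_map card_pgroup card_sylow card_dvd_kernel)
open Cfsg.Agent.H555.PiBS (fix_card)
open scoped Pointwise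

universe u

variable {S : Type u} [Group S]

theorem center_card (P : Subgroup S) :
    Nat.card (P ⊓ centralizer (P : Set S) : Subgroup S) = Nat.card (center P) := by
  have h : (center P).map P.subtype = (P ⊓ centralizer (P : Set S) : Subgroup S) := by
    ext x
    constructor
    · rintro ⟨y, hy, rfl⟩
      refine ⟨y.2, mem_centralizer_iff.2 ?_⟩
      intro z hz
      exact congrArg Subtype.val (mem_center_iff.1 hy ⟨z, hz⟩)
    · rintro ⟨hx, hxc⟩
      refine ⟨⟨x, hx⟩, ?_, rfl⟩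
      rw [SetLike.mem_coe, mem_center_iff]
      intro z
      exact Subtype.ext (mem_centralizer_iff.1 hxc z z.2)
  rw [← h, card_map_of_injective (subtype_injective P)]

/-- subgroups of order `s ^ a = |S|_s` are conjugate -/
theorem exists_conj_eq [Finite S] {s a n : ℕ} [hs : Fact s.Prime] (hS : Nat.card S = s ^ a * n) (hn : ¬ s ∣ n)
    {P Q : Subgroup S} (hP : Nat.card P = s ^ a) (hQ : Nat.card Q = s ^ a) :
    ∃ g : S, P.map (MulAut.conj g).toMonoidHom = Q := by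
  have key : ∀ R : Subgroup S, Nat.card R = s ^ a → ∃ T : Sylow s S, (T : Subgroup S) = R := by
    intro R hR
    obtain ⟨T, hT⟩ := (IsPGroup.of_card (p := s) (n := a) (G := R) hR).exists_le_sylow
    exact ⟨T, (eq_of_le_of_card_ge hT (by rw [card_sylow_of T hS hn, hR])).symm⟩
  obtain ⟨P', rfl⟩ := key P hP
  obtain ⟨Q', rfl⟩ := key Q hQ
  obtain ⟨g, hg⟩ := MulAction.exists_smul_eq S P' Q'
  exact ⟨g, by rw [← hg]; rfl⟩

theorem center_congr [Finite S] {s a n : ℕ} [hs : Fact s.Prime] (hS : Nat.card S = s ^ a * n) (hn : ¬ s ∣ n)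
    {P Q : Subgroup S} (hP : Nat.card P = s ^ a) (hQ : Nat.card Q = s ^ a) :
    Nat.card (center P) = Nat.card (center Q) := by
  obtain ⟨g, rfl⟩ := exists_conj_eq hS hn hP hQ
  exact Nat.card_congr (centerCongr (P.equivMapOfInjective _ (MulAut.conj g).injective)).toEquiv

/-- the Sylow `t`-subgroup of a Hall subgroup has order `t` and is self-normalising : a Frobenius group -/
theorem frob_of [Finite S] {s t a m : ℕ} (hs : s.Prime) (ht : t.Prime) (hst : s ≠ t)
    (hS : Nat.card S = s ^ a * t ^ 1 * m) (h2 : ¬ s ∣ m) (hm : ¬ t ∣ m)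
    (hN : ∀ x : S, orderOf x = t → ¬ s ∣ Nat.card (normalizer (zpowers x : Set S)))
    {K : Subgroup S} (hK : IsPiHall ({s, t} : Set ℕ) K) :
    ∃ Q : Subgroup S, ∃ x : S, Q ≤ K ∧ x ∈ K ∧ orderOf x = t ∧ x ∈ normalizer (Q : Set S) ∧ Nat.card Q = s ^ a ∧
      ∀ y ∈ Q, x * y = y * x → y = 1 := by
  have hfs : Fact s.Prime := ⟨hs⟩
  have hft : Fact t.Prime := ⟨ht⟩
  have hcK := card_of_hall hs ht hS h2 hm hK
  obtain ⟨T⟩ : Nonempty (Sylow t K) := inferInstance
  have hTc : Nat.card (T : Subgroup K) = t := by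
    have := card_sylow_of T (b := 1) (n := s ^ a) (by rw [hcK]; ring)
      (fun h => hst ((Nat.prime_dvd_prime_iff_eq ht hs).1 (ht.dvd_of_dvd_pow h)).symm)
    rwa [pow_one] at this
  have hnt : Nontrivial (T : Subgroup K) := by
    rw [← Finite.one_lt_card_iff_nontrivial, hTc]
    exact ht.one_lt
  obtain ⟨⟨x, hxT⟩, hx1⟩ := exists_ne (1 : (T : Subgroup K))
  have hx1 : x ≠ 1 := fun h => hx1 (by subst h; rfl)
  have hxo : orderOf x = t := by
    have h1 : orderOf x ∣ Nat.card (T : Subgroup K) := Subgroup.orderOf_dvd_natCard _ hxT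
    rw [hTc] at h1
    rcases (Nat.dvd_prime ht).1 h1 with h2 | h2
    · exact absurd (orderOf_eq_one_iff.1 h2) hx1
    · exact h2
  have hTz : (T : Subgroup K) = zpowers x := by
    symm
    apply eq_of_le_of_card_ge (zpowers_le.2 hxT)
    rw [hTc, Nat.card_zpowers, hxo]
  have hxo' : orderOf (x : S) = t := by rw [Subgroup.orderOf_coe, hxo]
  have hN' := hN x hxo'
  -- the normalizer of `T` in `K`
  have h3 : (normalizer ((T : Subgroup K) : Set K)).map K.subtype ≤ normalizer (zpowers (x : S) : Set S) := by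
    rintro _ ⟨y, hy, rfl⟩
    apply mem_normalizer_fintype
    intro z hz
    obtain ⟨k, rfl⟩ := mem_zpowers_iff.1 (SetLike.mem_coe.1 hz)
    have h4 : y * x ^ k * y⁻¹ ∈ (T : Subgroup K) :=
      (mem_normalizer_iff.1 hy _).1 ((T : Subgroup K).zpow_mem hxT k)
    rw [hTz] at h4
    obtain ⟨l, hl⟩ := mem_zpowers_iff.1 h4
    refine SetLike.mem_coe.2 (mem_zpowers_iff.2 ⟨l, ?_⟩)
    have := congrArg (Subtype.val) hl
    simpa using this
  have h4 : ¬ s ∣ Nat.card (normalizer ((T : Subgroup K) : Set K)) := by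
    intro h5
    apply hN'
    refine h5.trans ?_
    rw [← card_map_of_injective (subtype_injective K)]
    exact card_dvd_of_le h3
  have h5 : Nat.card (normalizer ((T : Subgroup K) : Set K)) ∣ t := by
    have h6 : Nat.card (normalizer ((T : Subgroup K) : Set K)) ∣ s ^ a * t ^ 1 := by
      rw [← hcK]; exact card_subgroup_dvd_card _
    rw [pow_one] at h6
    refine Nat.Coprime.dvd_of_dvd_mul_left ?_ h6
    exact Nat.Coprime.pow_right a ((hs.coprime_iff_not_dvd.2 h4).symm)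
  have h6 : normalizer ((T : Subgroup K) : Set K) = (T : Subgroup K) := by
    symm
    exact eq_of_le_of_card_ge le_normalizer (by rw [hTc]; exact Nat.le_of_dvd ht.pos h5)
  have h7 : normalizer ((T : Subgroup K) : Set K) ≤ centralizer ((T : Subgroup K) : Set K) := by
    rw [h6]
    intro y hy
    rw [mem_centralizer_iff]
    intro z hz
    rw [hTz] at hy hz
    obtain ⟨k, rfl⟩ := mem_zpowers_iff.1 hy
    obtain ⟨l, rfl⟩ := mem_zpowers_iff.1 (SetLike.mem_coe.1 hz)
    rw [← zpow_add, ← zpow_add, add_comm]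
  have hcomp := MonoidHom.ker_transferSylow_isComplement' T h7
  set Q0 := (MonoidHom.transferSylow T h7).ker with hQ0
  have hQc : Nat.card Q0 = s ^ a := by
    have h8 := hcomp.card_mul_card
    rw [hTc, hcK, pow_one] at h8
    exact Nat.eq_of_mul_eq_mul_right ht.pos h8
  refine ⟨Q0.map K.subtype, x, map_subtype_le _, x.2, hxo', ?_, ?_, ?_⟩
  · apply mem_normalizer_fintype
    rintro _ ⟨y, hy, rfl⟩
    exact ⟨x * y * x⁻¹, (inferInstance : Q0.Normal).conj_mem y hy x, by simp⟩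
  · rw [card_map_of_injective (subtype_injective K), hQc]
  · rintro _ ⟨y, hy, rfl⟩ hxy
    by_contra hy1
    apply hN'
    have h8 : orderOf (K.subtype y) ∣ s ^ a := by
      rw [coe_subtype, Subgroup.orderOf_coe, ← hQc]
      exact Subgroup.orderOf_dvd_natCard _ hy
    have h9 : s ∣ orderOf (K.subtype y) := by
      obtain ⟨k, -, hk⟩ := (Nat.dvd_prime_pow hs).1 h8
      rw [hk]
      rcases Nat.eq_zero_or_pos k with h10 | h10
      · rw [h10, pow_zero, orderOf_eq_one_iff] at hk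
        exact absurd hk hy1
      · exact dvd_pow_self s (by omega)
    have h10 : K.subtype y ∈ normalizer (zpowers (x : S) : Set S) := by
      apply mem_normalizer_fintype
      intro z hz
      obtain ⟨k, rfl⟩ := mem_zpowers_iff.1 (SetLike.mem_coe.1 hz)
      have h11 : Commute (K.subtype y) (x : S) := hxy.symm
      have h12 : K.subtype y * (x : S) ^ k * (K.subtype y)⁻¹ = (x : S) ^ k := by
        rw [(h11.zpow_right k).eq, mul_inv_cancel_right]
      rw [h12]
      exact hz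
    exact h9.trans (Subgroup.orderOf_dvd_natCard _ h10)

/-- **(ZC)** -/
theorem no_zc [Finite S] {s t a m : ℕ} (hs : s.Prime) (ht : t.Prime) (hst : s ≠ t)
    (hS : Nat.card S = s ^ a * t ^ 1 * m) (h2 : ¬ s ∣ m) (hm : ¬ t ∣ m)
    (hN : ∀ x : S, orderOf x = t → ¬ s ∣ Nat.card (normalizer (zpowers x : Set S)))
    {P : Subgroup S} (hP : Nat.card P = s ^ a) (hZ : ¬ t ∣ Nat.card (center P) - 1)
    (K : Subgroup S) : ¬ IsPiHall ({s, t} : Set ℕ) K := by
  intro hK
  have hfs : Fact s.Prime := ⟨hs⟩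
  obtain ⟨Q, x, -, -, hx, hxQ, hQ, hfp⟩ := frob_of hs ht hst hS h2 hm hN hK
  have hn : ¬ s ∣ t ^ 1 * m := by
    intro h
    rcases hs.dvd_mul.1 h with h | h
    · exact hst ((Nat.prime_dvd_prime_iff_eq hs ht).1 (hs.dvd_of_dvd_pow h))
    · exact h2 h
  rw [center_congr (n := t ^ 1 * m) (by rw [hS]; ring) hn hP hQ, ← center_card] at hZ
  have hxZ : x ∈ normalizer ((Q ⊓ centralizer (Q : Set S) : Subgroup S) : Set S) := by
    have h3 : ∀ y : S, y ∈ Q ↔ x * y * x⁻¹ ∈ Q := mem_normalizer_iff.1 hxQ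
    apply mem_normalizer_fintype
    rintro y ⟨hy, hyc⟩
    refine ⟨(h3 y).1 hy, ?_⟩
    show x * y * x⁻¹ ∈ centralizer (Q : Set S)
    rw [mem_centralizer_iff]
    intro z hz
    have h4 : x⁻¹ * z * x ∈ Q := by
      rw [h3]
      simpa [mul_assoc] using hz
    have h5 := mem_centralizer_iff.1 hyc _ h4
    calc z * (x * y * x⁻¹) = x * ((x⁻¹ * z * x) * y) * x⁻¹ := by group
      _ = x * (y * (x⁻¹ * z * x)) * x⁻¹ := by rw [h5]
      _ = x * y * x⁻¹ * z := by group
  have h3 := fix_card ht (by rw [← hx]; exact pow_orderOf_eq_one x) _ hxZ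
  have h4 : (Q ⊓ centralizer (Q : Set S) ⊓ centralizer {x} : Subgroup S) = ⊥ := by
    rw [eq_bot_iff]
    rintro y ⟨⟨hy, -⟩, hyx⟩
    exact mem_bot.2 (hfp y hy (mem_centralizer_singleton_iff.1 hyx).symm)
  rw [h4, card_bot] at h3
  exact hZ ((Nat.modEq_iff_dvd' (Nat.one_le_iff_ne_zero.2 Nat.card_pos.ne')).1 h3.symm)

/-- **(NAB)** a nonabelian `s`-subgroup -/
theorem no_nab [Finite S] {s t a m : ℕ} (hs : s.Prime) (ht : t.Prime) (hst : s ≠ t)
    (hS : Nat.card S = s ^ a * t ^ 1 * m) (h2 : ¬ s ∣ m) (hm : ¬ t ∣ m)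
    (hN : ∀ x : S, orderOf x = t → ¬ s ∣ Nat.card (normalizer (zpowers x : Set S)))
    (ho : ∀ k, 1 ≤ k → k < a → ¬ t ∣ s ^ k - 1)
    {E : Subgroup S} (hE : IsPGroup s E) (hna : ∃ x ∈ E, ∃ y ∈ E, x * y ≠ y * x)
    (K : Subgroup S) : ¬ IsPiHall ({s, t} : Set ℕ) K := by
  have hfs : Fact s.Prime := ⟨hs⟩
  obtain ⟨P, hEP⟩ := hE.exists_le_sylow
  obtain ⟨x, hx, y, hy, hxy⟩ := hna
  have hn : ¬ s ∣ t ^ 1 * m := by
    intro h
    rcases hs.dvd_mul.1 h with h | h
    · exact hst ((Nat.prime_dvd_prime_iff_eq hs ht).1 (hs.dvd_of_dvd_pow h))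
    · exact h2 h
  have hPc : Nat.card (P : Subgroup S) = s ^ a := card_sylow_of P (n := t ^ 1 * m) (by rw [hS]; ring) hn
  refine no_zc hs ht hst hS h2 hm hN hPc ?_ K
  have h1 : Nat.card (center (P : Subgroup S)) ∣ s ^ a := by rw [← hPc]; exact card_subgroup_dvd_card _
  obtain ⟨j, hj, hc⟩ := (Nat.dvd_prime_pow hs).1 h1
  rw [hc]
  refine ho j ?_ ?_
  · have hnt : Nontrivial (P : Subgroup S) :=
      ⟨⟨⟨x, hEP hx⟩, ⟨y, hEP hy⟩, fun h => hxy (by rw [show x = y from congrArg Subtype.val h])⟩⟩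
    have := P.isPGroup'.center_nontrivial
    have h3 := Finite.one_lt_card (α := center (P : Subgroup S))
    rw [hc] at h3
    rcases Nat.eq_zero_or_pos j with h4 | h4
    · rw [h4, pow_zero] at h3; omega
    · exact h4
  · refine lt_of_le_of_ne hj ?_
    rintro rfl
    have h3 : center (P : Subgroup S) = ⊤ := by
      apply eq_top_of_card_eq
      rw [hc, hPc]
    apply hxy
    have h4 : (⟨y, hEP hy⟩ : (P : Subgroup S)) ∈ center (P : Subgroup S) := by rw [h3]; exact mem_top _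
    exact congrArg Subtype.val (mem_center_iff.1 h4 ⟨x, hEP hx⟩)

/-! ### `s ∤ t - 1` : a normal Sylow `s`-subgroup -/

/-- an `s`-element normalising a subgroup of prime order `t`, `s ∤ t - 1`, centralises it -/
theorem comm_of_prime {G : Type*} [Group G] [Finite G] {s t : ℕ} (hs : s.Prime) (ht : t.Prime) (hst : ¬ s ∣ t - 1)
    {T : Subgroup G} (hT : Nat.card T = t) {z : G} {k : ℕ} (hz : z ^ s ^ k = 1) (hzT : z ∈ normalizer (T : Set G)) :
    ∀ y ∈ T, z * y = y * z := by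
  have hfs : Fact s.Prime := ⟨hs⟩
  have hzT' : ∀ x ∈ zpowers z, x ∈ normalizer (T : Set G) := fun x hx => (zpowers_le.2 hzT) hx
  by_contra hcon
  push Not at hcon
  obtain ⟨y0, hy0, hne⟩ := hcon
  have hTp : IsPGroup s (zpowers z) := by
    rw [IsPGroup.iff_card, Nat.card_zpowers]
    obtain ⟨j, -, hj⟩ := (Nat.dvd_prime_pow hs).1 (orderOf_dvd_of_pow_eq_one hz)
    exact ⟨j, hj⟩
  have h1 : s ^ 1 ∣ Nat.card T - Nat.card (⊥ : Subgroup G) := by
    refine dvd_sub (P := zpowers z) (zpowers_le.2 hzT) ?_ bot_le fun y hy hy1 => ?_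
    · intro x _
      apply mem_normalizer_fintype
      intro w hw
      have : w = 1 := mem_bot.1 hw
      subst this
      simp
    · -- the centralizer of `y` in `⟨z⟩` is proper
      have h3 : (centralizer {y} : Subgroup G).relIndex (zpowers z) ≠ 1 := by
        rw [Ne, relIndex_eq_one]
        intro h4
        apply hne
        have h5 : z ∈ centralizer ({y} : Set G) := h4 (mem_zpowers z)
        have hy1' : y ≠ 1 := fun h => hy1 (mem_bot.2 h)
        have h6 : T = zpowers y := by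
          symm
          apply eq_of_le_of_card_ge (zpowers_le.2 hy)
          have h7 : orderOf y ∣ t := by rw [← hT]; exact Subgroup.orderOf_dvd_natCard _ hy
          rcases (Nat.dvd_prime ht).1 h7 with h8 | h8
          · exact absurd (orderOf_eq_one_iff.1 h8) hy1'
          · rw [hT, Nat.card_zpowers, h8]
        rw [h6] at hy0
        obtain ⟨l, rfl⟩ := mem_zpowers_iff.1 hy0
        exact ((show Commute z y from mem_centralizer_singleton_iff.1 h5).zpow_right l).eq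
      have h4 : (centralizer {y} : Subgroup G).relIndex (zpowers z) ∣ Nat.card (zpowers z) :=
        relIndex_dvd_card _ _
      obtain ⟨n, hn⟩ := hTp.exists_card_eq
      rw [hn] at h4
      obtain ⟨i, -, hi⟩ := (Nat.dvd_prime_pow hs).1 h4
      rw [hi]
      apply pow_dvd_pow
      rcases Nat.eq_zero_or_pos i with h5 | h5
      · rw [h5, pow_zero] at hi; exact absurd hi h3
      · exact h5
  rw [pow_one, card_bot, hT] at h1
  exact hst h1

/-- a Hall `{s,t}`-subgroup has a normal Sylow `s`-subgroup -/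
theorem sylow_of_inv [Finite S] {s t a m : ℕ} (hs : s.Prime) (ht : t.Prime) (hst : s ≠ t)
    (hS : Nat.card S = s ^ a * t ^ 1 * m) (h2 : ¬ s ∣ m) (hm : ¬ t ∣ m) (hI : Inv1 s t S) (h1 : ¬ s ∣ t - 1)
    {K : Subgroup S} (hK : IsPiHall ({s, t} : Set ℕ) K) :
    ∃ Q : Subgroup S, HQ s t a 1 K Q ∧ Nat.card Q = s ^ a := by
  have hfs : Fact s.Prime := ⟨hs⟩
  have hft : Fact t.Prime := ⟨ht⟩
  obtain ⟨Q, h⟩ := exists_HQ hs ht hst hS h2 hm hI hK
  have hcK := h.card
  have hsol : Group.IsSolvable K := S0144.result s t a 1 hs ht hcK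
  set Q0 : Subgroup K := pCore s K with hQ0
  have hQ0n : Q0.Normal := Lib.Cores.pCore_normal s
  have hQ0p : IsPGroup s Q0 := Lib.Cores.pCore_isPGroup s
  have hQQ : Q ≤ Q0.map K.subtype := by
    have h3 : (Q.subgroupOf K).Normal := by
      constructor
      intro y hy g
      rw [mem_subgroupOf] at hy ⊢
      exact (mem_normalizer_iff.1 (h.nrm g.2) _).1 hy
    have h4 : Q.subgroupOf K ≤ Q0 := Lib.Cores.le_pCore h3 (h.sgp.comap_subtype)
    have h5 := map_mono (f := K.subtype) h4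
    rwa [subgroupOf_map_subtype, inf_eq_left.2 h.le] at h5
  have hHQ : HQ s t a 1 K (Q0.map K.subtype) := by
    refine ⟨hcK, map_subtype_le _, hQ0p.map _, ?_, ?_, hK⟩
    · intro x hx
      apply mem_normalizer_fintype
      rintro y ⟨z, hz, rfl⟩
      exact ⟨⟨x, hx⟩ * z * ⟨x, hx⟩⁻¹, hQ0n.conj_mem z hz _, by simp⟩
    · rintro x ⟨hx, hxc⟩
      exact hQQ (h.cen ⟨hx, centralizer_le hQQ hxc⟩)
  refine ⟨_, hHQ, ?_⟩
  rw [card_map_of_injective (subtype_injective K)]
  -- the quotient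
  have hsolG : Group.IsSolvable (K ⧸ Q0) := inferInstance
  have hGs : pCore s (K ⧸ Q0) = ⊥ := Lib.Cores.pCore_quotient_pCore s
  have hcG : Nat.card (K ⧸ Q0) * Nat.card Q0 = s ^ a * t := by
    rw [← pow_one t, ← hcK]; exact (Subgroup.card_eq_card_quotient_mul_card_subgroup Q0).symm
  have hGd : Nat.card (K ⧸ Q0) ∣ s ^ a * t := ⟨_, hcG.symm⟩
  have hGt : pPrimeCore t (K ⧸ Q0) = ⊥ := by
    have h3 := Lib.Cores.pPrimeCore_coprime (G := K ⧸ Q0) t
    have h4 : Nat.card (pPrimeCore t (K ⧸ Q0)) ∣ s ^ a := by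
      have h5 : Nat.card (pPrimeCore t (K ⧸ Q0)) ∣ s ^ a * t := (card_subgroup_dvd_card _).trans hGd
      exact Nat.Coprime.dvd_of_dvd_mul_right h3 h5
    have h5 : IsPGroup s (pPrimeCore t (K ⧸ Q0)) := by
      obtain ⟨k, -, hk⟩ := (Nat.dvd_prime_pow hs).1 h4
      exact IsPGroup.of_card hk
    have h6 := Lib.Cores.le_pCore (Lib.Cores.pPrimeCore_normal t) h5
    rw [hGs] at h6
    exact le_bot_iff.1 h6
  have hC := Lib.HallHigman.centralizer_pCore_le_of_solvable (G := K ⧸ Q0) t hGt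
  obtain ⟨k, hk⟩ := (Lib.Cores.pCore_isPGroup (G := K ⧸ Q0) t).exists_card_eq
  have hk1 : k ≤ 1 := by
    have h3 : t ^ k ∣ s ^ a * t := by rw [← hk]; exact (card_subgroup_dvd_card _).trans hGd
    have h4 : t ^ k ∣ t ^ 1 := by
      rw [pow_one]
      exact Nat.Coprime.dvd_of_dvd_mul_left (Nat.Coprime.pow _ _ ((Nat.coprime_primes ht hs).2 (Ne.symm hst))) h3
    exact (Nat.pow_dvd_pow_iff_le_right ht.one_lt).1 h4
  have htQ : ¬ t ∣ Nat.card Q0 := by
    obtain ⟨l, hl⟩ := hQ0p.exists_card_eq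
    rw [hl]
    exact fun h => hst ((Nat.prime_dvd_prime_iff_eq ht hs).1 (ht.dvd_of_dvd_pow h)).symm
  have hk0 : k ≠ 0 := by
    rintro rfl
    rw [pow_zero, card_eq_one] at hk
    rw [hk] at hC
    have h3 : (⊤ : Subgroup (K ⧸ Q0)) ≤ ⊥ := by
      refine le_trans ?_ hC
      intro x _
      rw [mem_centralizer_iff]
      intro y hy
      have : y = 1 := mem_bot.1 hy
      subst this
      simp
    have h4 : Nat.card (K ⧸ Q0) = 1 := by
      rw [← card_top, le_bot_iff.1 h3, card_bot]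
    rw [h4, one_mul] at hcG
    exact htQ (hcG ▸ dvd_mul_left t _)
  have hk2 : k = 1 := by omega
  rw [hk2, pow_one] at hk
  have hsG : ¬ s ∣ Nat.card (K ⧸ Q0) := by
    intro h3
    obtain ⟨z, hz⟩ := exists_prime_orderOf_dvd_card' (G := K ⧸ Q0) s h3
    have h4 : z ^ s ^ 1 = 1 := by rw [pow_one, ← hz]; exact pow_orderOf_eq_one z
    have hTn : (pCore t (K ⧸ Q0)).Normal := Lib.Cores.pCore_normal t
    have h5 := comm_of_prime hs ht h1 hk h4 (by rw [normalizer_eq_top]; exact mem_top _)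
    have h6 : z ∈ pCore t (K ⧸ Q0) := hC (mem_centralizer_iff.2 fun y hy => (h5 y hy).symm)
    have h7 : orderOf z ∣ Nat.card (pCore t (K ⧸ Q0)) := Subgroup.orderOf_dvd_natCard _ h6
    rw [hz, hk] at h7
    exact hst ((Nat.prime_dvd_prime_iff_eq hs ht).1 h7)
  have h3 : s ^ a ∣ Nat.card Q0 := by
    refine Nat.Coprime.dvd_of_dvd_mul_left (Nat.Coprime.pow_left a ((hs.coprime_iff_not_dvd).2 hsG)) ?_
    rw [hcG]
    exact dvd_mul_right _ _
  have h4 : Nat.card Q0 ∣ s ^ a := by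
    refine Nat.Coprime.dvd_of_dvd_mul_right ((ht.coprime_iff_not_dvd).2 htQ).symm ?_
    rw [← hcG]
    exact dvd_mul_left _ _
  exact Nat.dvd_antisymm h4 h3

/-- a normal Sylow `s`-subgroup: `t ∣ |N_S(P)|` -/
theorem no_snorm [Finite S] {s t a m : ℕ} (hs : s.Prime) (ht : t.Prime) (hst : s ≠ t)
    (hS : Nat.card S = s ^ a * t ^ 1 * m) (h2 : ¬ s ∣ m) (hm : ¬ t ∣ m) (hI : Inv1 s t S) (h1 : ¬ s ∣ t - 1)
    (hN : ∀ P : Subgroup S, Nat.card P = s ^ a → ¬ t ∣ Nat.card (normalizer (P : Set S)))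
    (K : Subgroup S) : ¬ IsPiHall ({s, t} : Set ℕ) K := by
  intro hK
  obtain ⟨Q, h, hQ⟩ := sylow_of_inv hs ht hst hS h2 hm hI h1 hK
  refine hN Q hQ ?_
  refine Dvd.dvd.trans ?_ (card_dvd_of_le h.nrm)
  rw [h.card, pow_one]
  exact dvd_mul_left t _

/-- a normal Sylow `s`-subgroup, `|Z(P)| = s ^ c` : `Z(P)` is centralised by an element of order `t` -/
theorem no_zn [Finite S] {s t a m c : ℕ} (hs : s.Prime) (ht : t.Prime) (hst : s ≠ t)
    (hS : Nat.card S = s ^ a * t ^ 1 * m) (h2 : ¬ s ∣ m) (hm : ¬ t ∣ m) (hI : Inv1 s t S) (h1 : ¬ s ∣ t - 1)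
    {P : Subgroup S} (hP : Nat.card P = s ^ a) (hZ : Nat.card (center P) = s ^ c)
    (ho : ∀ k, 1 ≤ k → k ≤ c → ¬ t ∣ s ^ k - 1)
    (hx : ∀ x : S, orderOf x = t → ¬ s ^ c ∣ Nat.card (centralizer ({x} : Set S)))
    (K : Subgroup S) : ¬ IsPiHall ({s, t} : Set ℕ) K := by
  intro hK
  have hfs : Fact s.Prime := ⟨hs⟩
  have hft : Fact t.Prime := ⟨ht⟩
  obtain ⟨Q, h, hQ⟩ := sylow_of_inv hs ht hst hS h2 hm hI h1 hK
  have hn : ¬ s ∣ t ^ 1 * m := by
    intro h
    rcases hs.dvd_mul.1 h with h | h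
    · exact hst ((Nat.prime_dvd_prime_iff_eq hs ht).1 (hs.dvd_of_dvd_pow h))
    · exact h2 h
  rw [center_congr (n := t ^ 1 * m) (by rw [hS]; ring) hn hP hQ, ← center_card] at hZ
  obtain ⟨⟨x, hxK⟩, hxo⟩ := exists_prime_orderOf_dvd_card' (G := K) t (by
    rw [h.card, pow_one]; exact dvd_mul_left t _)
  rw [Subgroup.orderOf_mk] at hxo
  have hxQ := h.nrm hxK
  have hxZ : x ∈ normalizer ((Q ⊓ centralizer (Q : Set S) : Subgroup S) : Set S) := by
    have h3 : ∀ y : S, y ∈ Q ↔ x * y * x⁻¹ ∈ Q := mem_normalizer_iff.1 hxQ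
    apply mem_normalizer_fintype
    rintro y ⟨hy, hyc⟩
    refine ⟨(h3 y).1 hy, ?_⟩
    show x * y * x⁻¹ ∈ centralizer (Q : Set S)
    rw [mem_centralizer_iff]
    intro z hz
    have h4 : x⁻¹ * z * x ∈ Q := by
      rw [h3]
      simpa [mul_assoc] using hz
    have h5 := mem_centralizer_iff.1 hyc _ h4
    calc z * (x * y * x⁻¹) = x * ((x⁻¹ * z * x) * y) * x⁻¹ := by group
      _ = x * (y * (x⁻¹ * z * x)) * x⁻¹ := by rw [h5]
      _ = x * y * x⁻¹ * z := by group
  have h3 := fix_card ht (by rw [← hxo]; exact pow_orderOf_eq_one x) _ hxZ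
  set Z : Subgroup S := Q ⊓ centralizer (Q : Set S) with hZdef
  have h4 : Nat.card (Z ⊓ centralizer {x} : Subgroup S) ∣ s ^ c := by
    rw [← hZ]; exact card_dvd_of_le inf_le_left
  obtain ⟨i, hi, h5⟩ := (Nat.dvd_prime_pow hs).1 h4
  rw [hZ, h5] at h3
  have hic : i = c := by
    by_contra hne
    have h6 : t ∣ s ^ c - s ^ i := (Nat.modEq_iff_dvd' (Nat.pow_le_pow_right hs.pos hi)).1 h3.symm
    have h7 : s ^ c - s ^ i = s ^ i * (s ^ (c - i) - 1) := by
      rw [Nat.mul_sub, ← pow_add, mul_one]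
      congr 2
      omega
    rw [h7] at h6
    exact ho (c - i) (by omega) (by omega)
      ((Nat.Coprime.pow_right _ ((Nat.coprime_primes ht hs).2 (Ne.symm hst))).dvd_of_dvd_mul_left h6)
  apply hx x hxo
  rw [← hic, ← h5]
  exact card_dvd_of_le inf_le_right

end Cfsg.Agent.H464.RM
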