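import Cfsg.Agent.H464.RM.Numeric
import Cfsg.Agent.H571.RV.Pred
import Cfsg.Agent.H543.PiBS.Gen
import Cfsg.Agent.Solvable.Hall

/-!
# P11 of S3849: from the data to `Her` (helper464)

`her_of_data` : `|S| = N`, a list `L` of the primes of `N`, a list `E` of excluded pairs of odd primes; the check `pchk`.
-/

set_option autoImplicit false

namespace Cfsg.Agent.H464.RM

open Subgroup Cfsg Cfsg.Agent.H571.DExt Cfsg.Agent.H988.CPi Cfsg.Agent.Solvable.SZ Cfsg.Agent.H571.RM Cfsg.Agent.H571.RV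
open scoped Pointwise

universe u

/-- `NS N s t` -/
def nschk (N s t : ℕ) : Bool :=
  N % s ^ 24 != 0 && (List.range 24).all fun i => i == 0 || N % s ^ i != 0 || (s ^ i - 1) % t != 0

theorem ns_of_chk {N s t : ℕ} (h : nschk N s t = true) : NS N s t := by
  unfold nschk at h
  rw [Bool.and_eq_true] at h
  obtain ⟨h1, h2⟩ := h
  have h1 : ¬ N % s ^ 24 = 0 := by simpa using h1
  intro i hi hd hdt
  have hi24 : i < 24 := by
    by_contra hcon
    exact h1 (Nat.mod_eq_zero_of_dvd ((pow_dvd_pow s (by omega)).trans hd))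
  have h3 := List.all_eq_true.1 h2 i (List.mem_range.2 hi24)
  simp only [Bool.or_eq_true, bne_iff_ne, ne_eq, beq_iff_eq] at h3
  rcases h3 with (h3 | h3) | h3
  · omega
  · exact h3 (Nat.mod_eq_zero_of_dvd hd)
  · exact h3 (Nat.mod_eq_zero_of_dvd hdt)

/-- all pairs of odd primes in `L` are harmless or in the list `E` -/
def pchk (N : ℕ) (L : List ℕ) (E : List (ℕ × ℕ)) : Bool :=
  L.all fun s => s == 2 || L.all fun t => decide (t ≤ s) || E.contains (s, t) ||
    (nschk N s t && (nschk N t s || N % t ^ 2 != 0))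

theorem pair_of_chk {N : ℕ} {L : List ℕ} {E : List (ℕ × ℕ)} (h : pchk N L E = true) {s t : ℕ} (hs : s ∈ L) (ht : t ∈ L)
    (hs2 : s ≠ 2) (hst : s < t) : (s, t) ∈ E ∨ PairOK N s t := by
  unfold pchk at h
  have h1 := List.all_eq_true.1 h s hs
  rw [Bool.or_eq_true, beq_iff_eq] at h1
  have h2 := List.all_eq_true.1 (h1.resolve_left hs2) t ht
  simp only [Bool.or_eq_true, Bool.and_eq_true, decide_eq_true_eq, List.contains_iff_mem, bne_iff_ne, ne_eq] at h2
  rcases h2 with (h2 | h2) | ⟨h2, h3⟩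
  · omega
  · exact Or.inl h2
  · refine Or.inr ⟨ns_of_chk h2, ?_⟩
    rcases h3 with h3 | h3
    · exact Or.inl (ns_of_chk h3)
    · exact Or.inr fun hd => h3 (Nat.mod_eq_zero_of_dvd hd)

variable {S : Type u} [Group S] [Finite S] {π : Set ℕ}

theorem dc_of_dom (h : Dom π S) : H543.PiBS.DC π S where
  d K hK := Dom.pi_le h K hK
  c := h.cpi.2

theorem mem_primes {p : ℕ} (hp : p.Prime) {N : ℕ} (h : p ∣ N) (L : List ℕ) (hL : ∀ q ∈ L, q.Prime) (k : ℕ)
    (hN : N ∣ L.prod ^ k) : p ∈ L := by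
  have h1 : p ∣ L.prod := hp.dvd_of_dvd_pow (h.trans hN)
  obtain ⟨q, hq, hd⟩ := (Prime.dvd_prod_iff hp.prime).1 h1
  rwa [(Nat.prime_dvd_prime_iff_eq hp (hL q hq)).1 hd]

theorem exists_split (σ : Set ℕ) {n : ℕ} (hn : n ≠ 0) : ∃ a b : ℕ, n = a * b ∧ PiN σ a ∧ PiN' σ b := by
  classical
  induction n using Nat.recOnMul with
  | zero => exact absurd rfl hn
  | one =>
    refine ⟨1, 1, rfl, ?_, ?_⟩
    · intro p hp hd; exact absurd (Nat.dvd_one.mp hd) hp.one_lt.ne'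
    · intro p hp _ hd; exact hp.one_lt.ne' (Nat.dvd_one.mp hd)
  | prime p hp =>
    by_cases h : p ∈ σ
    · refine ⟨p, 1, (mul_one p).symm, ?_, ?_⟩
      · intro q hq hd; rwa [(Nat.prime_dvd_prime_iff_eq hq hp).mp hd]
      · intro q hq _ hd; exact hq.one_lt.ne' (Nat.dvd_one.mp hd)
    · refine ⟨1, p, (one_mul p).symm, ?_, ?_⟩
      · intro q hq hd; exact absurd (Nat.dvd_one.mp hd) hq.one_lt.ne'
      · intro q hq hqσ hd
        rw [(Nat.prime_dvd_prime_iff_eq hq hp).mp hd] at hqσ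
        exact h hqσ
  | mul m n ihm ihn =>
    have hm : m ≠ 0 := fun h => hn (by rw [h, zero_mul])
    have hn' : n ≠ 0 := fun h => hn (by rw [h, mul_zero])
    obtain ⟨a, b, h1, h2, h3⟩ := ihm hm
    obtain ⟨c, d, h4, h5, h6⟩ := ihn hn'
    exact ⟨a * c, b * d, by rw [h1, h4]; ring, h2.mul h5, h3.mul h6⟩

/-- **`D_σ` from `D_π` with a soluble Hall subgroup** -/
theorem dom_sub {σ : Set ℕ} (hσ : σ ⊆ π) (h : Dom π S)
    (hs : ∀ H : Subgroup S, IsPiHall π H → Group.IsSolvable H) : Dom σ S := by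
  obtain ⟨H, hH, hdom⟩ := h
  have hsol := hs H hH
  obtain ⟨a, b, hab, ha, hb⟩ := exists_split σ (Nat.card_pos (α := H)).ne'
  have hcop : a.Coprime b := ha.coprime hb
  obtain ⟨L, hL⟩ := Cfsg.Agent.Solvable.Hall.hall_exists a b hab hcop
  refine ⟨L.map H.subtype, ⟨?_, ?_⟩, ?_⟩
  · intro p hp hd
    rw [Subgroup.card_map_of_injective H.subtype_injective, hL] at hd
    exact ha p hp hd
  · have hidx : (L.map H.subtype).index = L.index * H.index := Subgroup.index_map_subtype L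
    have hLi : L.index = b := by
      have h1 := Subgroup.card_mul_index L
      rw [hL, hab] at h1
      exact Nat.eq_of_mul_eq_mul_left (Nat.pos_of_ne_zero fun h0 => by
        rw [h0, zero_mul] at hab
        exact (Nat.card_pos (α := H)).ne' hab) h1
    intro p hp hpσ hd
    rw [hidx, hLi] at hd
    rcases (hp.dvd_mul).1 hd with h1 | h1
    · exact hb p hp hpσ h1
    · exact hH.2 p hp (hσ hpσ) h1
  · intro K hK
    obtain ⟨g, hg⟩ := hdom K (fun p hp hd => hσ (hK p hp hd))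
    have h1 : MulAut.conj g⁻¹ • K ≤ H := by
      intro x hx
      obtain ⟨k, hk, rfl⟩ := hx
      obtain ⟨m, hm, hmk⟩ := hg hk
      have : (MulAut.conj g⁻¹) k = m := by
        rw [← hmk]
        show g⁻¹ * (g * m * g⁻¹) * (g⁻¹)⁻¹ = m
        group
      show (MulAut.conj g⁻¹) k ∈ H
      rw [this]; exact hm
    have hcard : Nat.card (MulAut.conj g⁻¹ • K : Subgroup S) = Nat.card K :=
      (Nat.card_congr (Subgroup.equivSMul (MulAut.conj g⁻¹) K).toEquiv).symm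
    set K' : Subgroup H := (MulAut.conj g⁻¹ • K).subgroupOf H with hK'
    have hcardK' : Nat.card K' = Nat.card K := by
      rw [hK', Nat.card_congr (Subgroup.subgroupOfEquivOfLe h1).toEquiv, hcard]
    have hcopK : (Nat.card K').Coprime b := by
      rw [hcardK']
      exact PiN.coprime (π := σ) hK hb
    obtain ⟨m, hm⟩ := Cfsg.Agent.Solvable.Hall.hall_conj_le a b hab hcop L K' hL hcopK
    refine ⟨g * (m : S)⁻¹, ?_⟩
    intro k hk
    have hk1 : g⁻¹ * k * g ∈ H := by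
      have := h1 ⟨k, hk, rfl⟩
      simpa using this
    have hk2 : (⟨g⁻¹ * k * g, hk1⟩ : H) ∈ K' := by
      rw [hK', mem_subgroupOf]
      exact ⟨k, hk, by simp⟩
    have hk3 : m * ⟨g⁻¹ * k * g, hk1⟩ * m⁻¹ ∈ L := hm ⟨_, hk2, rfl⟩
    refine ⟨(m : S) * (g⁻¹ * k * g) * (m : S)⁻¹, ⟨_, hk3, rfl⟩, ?_⟩
    show g * (m : S)⁻¹ * ((m : S) * (g⁻¹ * k * g) * (m : S)⁻¹) * (g * (m : S)⁻¹)⁻¹ = k
    group

/-- a `π`-group satisfies `D_π` -/
theorem dom_of_pi {M : Type*} [Group M] [Finite M] (h : PiN π (Nat.card M)) : Dom π M := by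
  refine ⟨⊤, ⟨?_, ?_⟩, fun K _ => ⟨1, ?_⟩⟩
  · have : PiN π (Nat.card (⊤ : Subgroup M)) := by rw [card_top]; exact h
    exact this
  · intro p hp _ hd
    rw [index_top] at hd
    exact hp.one_lt.ne' (Nat.dvd_one.1 hd)
  · rw [map_one, one_smul]; exact le_top

/-- one prime : Sylow -/
theorem dom_of_prime {M : Type*} [Group M] [Finite M] {q : ℕ} (hq : q.Prime)
    (h : ∀ p : ℕ, p.Prime → p ∈ π → p ∣ Nat.card M → p = q) (hqπ : q ∈ π) : Dom π M := by
  have hFq : Fact q.Prime := ⟨hq⟩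
  obtain ⟨T⟩ : Nonempty (Sylow q M) := inferInstance
  refine ⟨T, ⟨?_, ?_⟩, fun K hK => ?_⟩
  · intro p hp hd
    obtain ⟨n, hn⟩ := T.isPGroup'.exists_card_eq
    rw [hn] at hd
    rw [(Nat.prime_dvd_prime_iff_eq hp hq).1 (hp.dvd_of_dvd_pow hd)]
    exact hqπ
  · intro p hp hpπ hd
    have h1 := h p hp hpπ (hd.trans (index_dvd_card _))
    rw [h1] at hd
    exact T.not_dvd_index hd
  · have hKp : IsPGroup q K := by
      rw [IsPGroup.iff_card]
      obtain ⟨n, m, hm, hn⟩ := Nat.exists_eq_pow_mul_and_not_dvd (Nat.card_pos (α := K)).ne' q hq.ne_one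
      have hm1 : m = 1 := by
        by_contra hne
        obtain ⟨p, hp, hd⟩ := Nat.exists_prime_and_dvd hne
        have h1 : p ∣ Nat.card K := by rw [hn]; exact dvd_mul_of_dvd_right hd _
        have h2 := h p hp (hK p hp h1) (h1.trans (card_subgroup_dvd_card K))
        rw [h2] at hd
        exact hm hd
      exact ⟨n, by rw [hn, hm1, mul_one]⟩
    obtain ⟨T', hT'⟩ := hKp.exists_le_sylow
    obtain ⟨g, hg⟩ := MulAction.exists_smul_eq M T T'
    refine ⟨g, hT'.trans (le_of_eq ?_)⟩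
    rw [← hg]
    rfl

/-- no odd prime : trivial -/
theorem her_of_two (h2 : 2 ∈ π) (h : ∀ p : ℕ, p.Prime → p ∈ π → p ∣ Nat.card S → p = 2) : Her π S := by
  intro _ H M _ _
  exact dom_of_prime Nat.prime_two (fun p hp hpπ hd => h p hp hpπ (hd.trans (card_subgroup_dvd_card M))) h2

/-- `2 ∈ π` -/
theorem her_of_mem (h2 : 2 ∈ π)
    (h6 : 2 ∈ π → 3 ∈ π → Dom π S → PiGrp π S)
    (hsol : 2 ∈ π → 3 ∉ π → Dom π S → ∀ H : Subgroup S, IsPiHall π H → Group.IsSolvable H)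
    (no2 : ∀ p : ℕ, p.Prime → 5 ≤ p → p ∣ Nat.card S → ¬ Dom ({2, p} : Set ℕ) S) : Her π S := by
  intro hD
  by_cases h3 : 3 ∈ π
  · intro H M _ _
    exact dom_of_pi (PiN.of_dvd (h6 h2 h3 hD) (card_subgroup_dvd_card M))
  · refine her_of_two h2 (fun p hp hpπ hpS => ?_) hD
    by_contra hp2
    have hp3 : p ≠ 3 := fun h => h3 (h ▸ hpπ)
    have h5 : 5 ≤ p := by
      have := hp.two_le
      have h4 : p ≠ 4 := by rintro rfl; revert hp; norm_num
      omega
    refine no2 p hp h5 hpS (dom_sub ?_ hD (hsol h2 h3 hD))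
    intro q hq
    rcases hq with rfl | hq
    · exact h2
    · rw [Set.mem_singleton_iff] at hq
      rw [hq]; exact hpπ

/-- `2 ∉ π` : every pair is harmless or excluded -/
theorem pairs_of_dom {N : ℕ} (hc : Nat.card S = N) (L : List ℕ) (hL : ∀ q ∈ L, q.Prime) (k : ℕ) (hN : N ∣ L.prod ^ k)
    (E : List (ℕ × ℕ)) (hchk : pchk N L E = true) (h2 : 2 ∉ π) (hD : Dom π S) {s t : ℕ} (hs : s.Prime) (ht : t.Prime)
    (hsπ : s ∈ π) (htπ : t ∈ π) (hst : s < t) (hsS : s ∣ Nat.card S) (htS : t ∣ Nat.card S) :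
    ((s, t) ∈ E ∧ Dom ({s, t} : Set ℕ) S) ∨ PairOK (Nat.card S) s t := by
  rw [hc] at hsS htS ⊢
  rcases pair_of_chk hchk (mem_primes hs hsS L hL k hN) (mem_primes ht htS L hL k hN) (fun h => h2 (h ▸ hsπ)) hst with h | h
  · refine Or.inl ⟨h, dom_sub ?_ hD fun H hH => ?_⟩
    · intro q hq
      rcases hq with rfl | hq
      · exact hsπ
      · rw [Set.mem_singleton_iff] at hq
        rw [hq]; exact htπ
    · apply S0205.result
      rw [← Nat.not_even_iff_odd, even_iff_two_dvd]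
      exact fun h => h2 (hH.1 2 Nat.prime_two h)
  · exact Or.inr h

/-- **`Her π S` from the data** -/
theorem her_of_data {N : ℕ} (hc : Nat.card S = N) (L : List ℕ) (hL : ∀ q ∈ L, q.Prime) (k : ℕ) (hN : N ∣ L.prod ^ k)
    (E : List (ℕ × ℕ)) (hchk : pchk N L E = true)
    (h6 : 2 ∈ π → 3 ∈ π → Dom π S → PiGrp π S)
    (hsol : 2 ∈ π → 3 ∉ π → Dom π S → ∀ H : Subgroup S, IsPiHall π H → Group.IsSolvable H)
    (no2 : ∀ p : ℕ, p.Prime → 5 ≤ p → p ∣ Nat.card S → ¬ Dom ({2, p} : Set ℕ) S)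
    (hE : ∀ p ∈ E, ¬ Dom ({p.1, p.2} : Set ℕ) S) : Her π S := by
  by_cases h2 : 2 ∈ π
  · exact her_of_mem h2 h6 hsol no2
  · intro hD
    refine her_of_pairs h2 (fun s t hs ht hsπ htπ hst hsS htS => ?_) hD
    rcases pairs_of_dom hc L hL k hN E hchk h2 hD hs ht hsπ htπ hst hsS htS with ⟨h, h'⟩ | h
    · exact absurd h' (hE _ h)
    · exact h

end Cfsg.Agent.H464.RM
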