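import Cfsg.Agent.H555.RV.Count

/-!
# The Sylow count for `D_{s,t}`, general primes (helper464, after helper555)

`|S| = s ^ a * t ^ b * m`, `s ^ d` the exact power of `s` in `|N_S(P)|`, `P` a Sylow `t`-subgroup: `D_{s,t}` gives
`s ^ (a - d) ≡ 1` mod `t`.

* `nd_count` : the general statement;
* `nd_cent` : `b = 1`, from `|C_S(x)| = c`, numerical check `cchk`;
* `nd_sc` : `c = t`.
-/

set_option autoImplicit false

namespace Cfsg.Agent.H464.RM

open Subgroup Cfsg Cfsg.Agent.H571.DExt Cfsg.Agent.H988.CPi Cfsg.Agent.H555.RV Cfsg.Agent.Solvable.SZ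
open scoped Pointwise

universe u

variable {S : Type u} [Group S]

theorem card_of_hall [Finite S] {s t a b m : ℕ} (hs : s.Prime) (ht : t.Prime) (hS : Nat.card S = s ^ a * t ^ b * m)
    (h2 : ¬ s ∣ m) (hm : ¬ t ∣ m) {K : Subgroup S} (hK : IsPiHall ({s, t} : Set ℕ) K) :
    Nat.card K = s ^ a * t ^ b := by
  have h1 := K.card_mul_index
  rw [hS] at h1
  refine (mul_unique (π := ({s, t} : Set ℕ)) hK.1 hK.2 ?_ ?_ h1)
  · intro r hr hd
    rcases hr.dvd_mul.1 hd with h | h
    · left; exact (Nat.prime_dvd_prime_iff_eq hr hs).1 (hr.dvd_of_dvd_pow h)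
    · right; exact (Nat.prime_dvd_prime_iff_eq hr ht).1 (hr.dvd_of_dvd_pow h)
  · rintro r hr hrπ hd
    rcases hrπ with rfl | h
    · exact h2 hd
    · rw [Set.mem_singleton_iff] at h
      subst h
      exact hm hd

theorem piN_of_pgroup [Finite S] {s t : ℕ} (ht : t.Prime) {P : Subgroup S} (hP : IsPGroup t P) :
    PiN ({s, t} : Set ℕ) (Nat.card P) := by
  have hft : Fact t.Prime := ⟨ht⟩
  obtain ⟨k, hk⟩ := hP.exists_card_eq
  intro r hr hd
  rw [hk] at hd
  right
  exact (Nat.prime_dvd_prime_iff_eq hr ht).1 (hr.dvd_of_dvd_pow hd)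

/-- **The count.** -/
theorem nd_count [Finite S] {s t a b m d : ℕ} (hs : s.Prime) [ht : Fact t.Prime] (hst : s ≠ t)
    (hS : Nat.card S = s ^ a * t ^ b * m) (h2 : ¬ s ∣ m) (hm : ¬ t ∣ m) (P : Sylow t S)
    (hd : s ^ d ∣ Nat.card (normalizer ((P : Subgroup S) : Set S)))
    (hd' : ¬ s ^ (d + 1) ∣ Nat.card (normalizer ((P : Subgroup S) : Set S)))
    (har : ¬ s ^ (a - d) ≡ 1 [MOD t]) : ¬ Dom ({s, t} : Set ℕ) S := by
  intro hD
  obtain ⟨K₀, hK₀, hdom⟩ := hD
  have hcK₀ := card_of_hall hs ht.out hS h2 hm hK₀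
  have hfs : Fact s.Prime := ⟨hs⟩
  set N := normalizer ((P : Subgroup S) : Set S) with hN
  obtain ⟨T, hT⟩ := Sylow.exists_subgroup_card_pow_prime s hd
  set T1 : Subgroup S := T.map N.subtype with hT1
  have hcT : Nat.card T1 = s ^ d := by rw [hT1, card_map_of_injective (subtype_injective N), hT]
  have hTN : T1 ≤ N := map_subtype_le _
  have hcP : Nat.card (P : Subgroup S) = t ^ b := by
    refine card_sylow_of P (n := s ^ a * m) (by rw [hS]; ring) ?_
    intro h5
    rcases ht.out.dvd_mul.1 h5 with h6 | h6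
    · exact hst ((Nat.prime_dvd_prime_iff_eq ht.out hs).1 (ht.out.dvd_of_dvd_pow h6)).symm
    · exact hm h6
  have hX : PiN ({s, t} : Set ℕ) (Nat.card (T1 ⊔ (P : Subgroup S) : Subgroup S)) := by
    refine piN_sup hTN ?_ (piN_of_pgroup ht.out P.isPGroup')
    intro r hr hrd
    rw [hcT] at hrd
    left
    exact (Nat.prime_dvd_prime_iff_eq hr hs).1 (hr.dvd_of_dvd_pow hrd)
  obtain ⟨g, hg⟩ := hdom _ hX
  set K : Subgroup S := MulAut.conj g • K₀ with hK
  have hcK : Nat.card K = s ^ a * t ^ b := by rw [hK, card_conj_smul, hcK₀]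
  have hPK : (P : Subgroup S) ≤ K := le_sup_right.trans hg
  have hTK : T1 ≤ K := le_sup_left.trans hg
  let Q : Sylow t K := P.subtype hPK
  have h1 : normalizer ((Q : Subgroup K) : Set K) = N.subgroupOf K := by
    have h2 : (Q : Subgroup K) = (P : Subgroup S).subgroupOf K := rfl
    rw [h2]
    exact (subgroupOf_normalizer_eq hPK).symm
  have h3 : Nat.card (Sylow t K) = (normalizer ((Q : Subgroup K) : Set K)).index := Sylow.card_eq_index_normalizer Q
  have h4 := (N.subgroupOf K).card_mul_index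
  rw [← h1, ← h3, h1, hcK] at h4
  have h5 : Nat.card (N.subgroupOf K) = Nat.card (N ⊓ K : Subgroup S) := by
    rw [← subgroupOf_map_subtype, card_map_of_injective (subtype_injective K)]
  have h6 : s ^ d * t ^ b ∣ Nat.card (N ⊓ K : Subgroup S) := by
    refine Nat.Coprime.mul_dvd_of_dvd_of_dvd ?_ ?_ ?_
    · exact Nat.Coprime.pow _ _ ((Nat.coprime_primes hs ht.out).2 hst)
    · rw [← hcT]; exact card_dvd_of_le (le_inf hTN hTK)
    · rw [← hcP]; exact card_dvd_of_le (le_inf le_normalizer hPK)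
  obtain ⟨w, hw⟩ := h6
  rw [h5, hw] at h4
  have h7 : s ^ d * (w * Nat.card (Sylow t K)) = s ^ a := by
    apply Nat.eq_of_mul_eq_mul_right (pow_pos ht.out.pos b)
    rw [← h4]; ring
  have hda : d ≤ a := (Nat.pow_dvd_pow_iff_le_right hs.one_lt).1 ⟨_, h7.symm⟩
  have h8 : w * Nat.card (Sylow t K) = s ^ (a - d) := by
    apply Nat.eq_of_mul_eq_mul_left (pow_pos hs.pos d)
    rw [h7, ← pow_add]
    congr 1
    omega
  obtain ⟨i, hi, hwi⟩ := (Nat.dvd_prime_pow hs).1 (⟨_, h8.symm⟩ : w ∣ s ^ (a - d))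
  have hi0 : i = 0 := by
    by_contra hne
    apply hd'
    have h9 : s ^ (d + 1) ∣ Nat.card (N ⊓ K : Subgroup S) := by
      rw [hw, hwi]
      obtain ⟨j, rfl⟩ := Nat.exists_eq_succ_of_ne_zero hne
      exact ⟨t ^ b * s ^ j, by rw [pow_succ, pow_succ]; ring⟩
    exact h9.trans (card_dvd_of_le inf_le_left)
  rw [hi0, pow_zero] at hwi
  rw [hwi, one_mul] at h8
  apply har
  rw [← h8]
  exact card_sylow_modEq_one t K

/-! ### numerical checks -/

/-- `n = s ^ k * r`, `s ∤ r`, `k ≤ fuel` : the exponent `k` -/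
def vv (s : ℕ) : ℕ → ℕ → ℕ
  | 0, _ => 0
  | f + 1, n => if n % s = 0 then vv s f (n / s) + 1 else 0

theorem vv_spec {s : ℕ} (hs : 1 < s) : ∀ (f n : ℕ), 0 < n → n < s ^ f → s ^ vv s f n ∣ n ∧ ¬ s ^ (vv s f n + 1) ∣ n := by
  intro f
  induction f with
  | zero => intro n h1 h2; rw [pow_zero] at h2; omega
  | succ f ih =>
    intro n h1 h2
    unfold vv
    split_ifs with h
    · obtain ⟨m, rfl⟩ := Nat.dvd_of_mod_eq_zero h
      have hs0 : 0 < s := by omega
      rw [Nat.mul_div_cancel_left m hs0]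
      have hm : 0 < m := by
        rcases Nat.eq_zero_or_pos m with h | h
        · rw [h, mul_zero] at h1; omega
        · exact h
      have hlt : m < s ^ f := by
        rw [pow_succ, mul_comm s m] at h2
        exact lt_of_mul_lt_mul_right h2 hs0.le
      obtain ⟨h3, h4⟩ := ih m hm hlt
      refine ⟨?_, ?_⟩
      · rw [pow_succ, mul_comm]
        exact Nat.mul_dvd_mul_left s h3
      · intro h5
        apply h4
        rw [pow_succ, mul_comm] at h5
        exact Nat.dvd_of_mul_dvd_mul_left hs0 h5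
    · refine ⟨?_, ?_⟩
      · rw [pow_zero]; exact one_dvd n
      · rw [zero_add, pow_one]
        exact fun h5 => h (Nat.mod_eq_zero_of_dvd h5)

/-- the check for the automizer orders `e` -/
def cchk (N s t a c : ℕ) : Bool :=
  decide (0 < c) && decide (c < 2 ^ 60) && decide (t < 1000) && (N % (s ^ a * t) == 0) && (N / (s ^ a * t)) % s != 0 &&
    (N / (s ^ a * t)) % t != 0 && decide (1 < N / (s ^ a * t)) &&
    (List.range t).all fun e => decide (e ≤ 1) || (t - 1) % e != 0 || N % (c * e) != 0 || (N / (c * e)) % t != 1 ||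
      (s ^ (a - vv s 100 (c * e)) % t != 1)

/-- **`|S|_t = t`, `|C_S(x)| = c`.** -/
theorem nd_cent [Finite S] [IsSimpleGroup S] {N s t a c : ℕ} (hs : s.Prime) (ht : t.Prime) (hst : s ≠ t)
    (hS : Nat.card S = N) {x : S} (hx : orderOf x = t) (hc : Nat.card (centralizer ({x} : Set S)) = c)
    (hchk : cchk N s t a c = true) : ¬ Dom ({s, t} : Set ℕ) S := by
  unfold cchk at hchk
  simp only [Bool.and_eq_true] at hchk
  obtain ⟨⟨⟨⟨⟨⟨⟨h0, h1⟩, h2⟩, h3⟩, h4⟩, h5⟩, h6⟩, h7⟩ := hchk
  have hc0 : 0 < c := of_decide_eq_true h0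
  have hc1 : c < 2 ^ 60 := of_decide_eq_true h1
  have ht1 : t < 1000 := of_decide_eq_true h2
  have h3' : N % (s ^ a * t) = 0 := by simpa using h3
  obtain ⟨m, hm⟩ := Nat.dvd_of_mod_eq_zero h3'
  have hpos : 0 < s ^ a * t := Nat.mul_pos (pow_pos hs.pos a) ht.pos
  have hdiv : N / (s ^ a * t) = m := by rw [hm, Nat.mul_div_cancel_left _ hpos]
  rw [hdiv] at h4 h5 h6
  have hsm : ¬ s ∣ m := fun h => by
    rw [Nat.mod_eq_zero_of_dvd h] at h4; simp at h4
  have htm : ¬ t ∣ m := fun h => by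
    rw [Nat.mod_eq_zero_of_dvd h] at h5; simp at h5
  have hm1 : 1 < m := of_decide_eq_true h6
  have hn : ¬ t ∣ s ^ a * m := by
    intro h
    rcases ht.dvd_mul.1 h with h | h
    · exact hst ((Nat.prime_dvd_prime_iff_eq ht hs).1 (ht.dvd_of_dvd_pow h)).symm
    · exact htm h
  have hft : Fact t.Prime := ⟨ht⟩
  obtain ⟨e, k, he, he1, hk, hNe, hSk, -⟩ := aut_data ht (n := s ^ a * m) (by rw [hS, hm]; ring) hn
    (fun h => by
      have := Nat.eq_one_of_mul_eq_one_left h
      omega) hx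
  rw [hc] at hNe hSk
  obtain ⟨P, hP⟩ : ∃ P : Sylow t S, (P : Subgroup S) = zpowers x := by
    obtain ⟨P, hP⟩ := (IsPGroup.of_card (p := t) (n := 1) (G := zpowers x) (by rw [Nat.card_zpowers, hx, pow_one])).exists_le_sylow
    exact ⟨P, (eq_of_le_of_card_ge hP (by
      rw [card_sylow_of P (b := 1) (n := s ^ a * m) (by rw [hS, hm]; ring) hn, Nat.card_zpowers, hx, pow_one])).symm⟩
  have he0 : e ≠ 0 := by
    rintro rfl
    have := Nat.eq_zero_of_zero_dvd he
    have := ht.one_lt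
    omega
  have het : e < t := by
    have := Nat.le_of_dvd (by have := ht.one_lt; omega) he
    have := ht.one_lt
    omega
  have h8 := List.all_eq_true.1 h7 e (List.mem_range.2 het)
  have hce : 0 < c * e := Nat.mul_pos hc0 (Nat.pos_of_ne_zero he0)
  have hNN : N = k * (c * e) := by rw [← hS, hSk]
  have hNmod : N % (c * e) = 0 := by rw [hNN]; exact Nat.mul_mod_left _ _
  have hNdiv : N / (c * e) = k := by rw [hNN, Nat.mul_div_cancel _ hce]
  have hlt : c * e < s ^ 100 := by
    calc c * e < 2 ^ 60 * 1000 := Nat.mul_lt_mul'' hc1 (het.trans ht1)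
      _ ≤ 2 ^ 100 := by norm_num
      _ ≤ s ^ 100 := Nat.pow_le_pow_left hs.two_le 100
  obtain ⟨h9, h10⟩ := vv_spec hs.one_lt 100 (c * e) hce hlt
  have h11 : s ^ (a - vv s 100 (c * e)) % t ≠ 1 := by
    simp only [Bool.or_eq_true, bne_iff_ne, ne_eq] at h8
    rcases h8 with (((h8 | h8) | h8) | h8) | h8
    · have := of_decide_eq_true h8
      omega
    · exact absurd (Nat.mod_eq_zero_of_dvd he) h8
    · exact absurd hNmod h8
    · rw [hNdiv] at h8
      exact absurd hk h8
    · exact h8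
  refine nd_count (a := a) (b := 1) (m := m) (d := vv s 100 (c * e)) hs hst (by rw [hS, hm, pow_one]) hsm htm P
    (by rw [hP, hNe]; exact h9) (by rw [hP, hNe]; exact h10) ?_
  rw [Nat.ModEq, Nat.mod_eq_of_lt ht.one_lt]
  exact h11

/-- self-centralizing elements of order `t` -/
theorem nd_sc [Finite S] [IsSimpleGroup S] {N s t a : ℕ} (hs : s.Prime) (ht : t.Prime) (hst : s ≠ t)
    (hS : Nat.card S = N) (hc : ∀ x : S, orderOf x = t → Nat.card (centralizer ({x} : Set S)) = t)
    (hchk : cchk N s t a t = true) : ¬ Dom ({s, t} : Set ℕ) S := by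
  have hft : Fact t.Prime := ⟨ht⟩
  have h3 : N % (s ^ a * t) = 0 := by
    have := hchk
    unfold cchk at this
    simp only [Bool.and_eq_true] at this
    simpa using this.1.1.1.1.2
  obtain ⟨x, hx⟩ := exists_prime_orderOf_dvd_card' (G := S) t (by
    rw [hS]; exact (Dvd.intro_left _ rfl).trans (Nat.dvd_of_mod_eq_zero h3))
  exact nd_cent hs ht hst hS hx (hc x hx) hchk

/-- the order of the centralizer of one element of order `t` -/
theorem nd_cent' [Finite S] [IsSimpleGroup S] {N s t a c : ℕ} (hs : s.Prime) (ht : t.Prime) (hst : s ≠ t)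
    (hS : Nat.card S = N) (hc : ∀ x : S, orderOf x = t → Nat.card (centralizer ({x} : Set S)) = c)
    (hchk : cchk N s t a c = true) : ¬ Dom ({s, t} : Set ℕ) S := by
  have hft : Fact t.Prime := ⟨ht⟩
  have h3 : N % (s ^ a * t) = 0 := by
    have := hchk
    unfold cchk at this
    simp only [Bool.and_eq_true] at this
    simpa using this.1.1.1.1.2
  obtain ⟨x, hx⟩ := exists_prime_orderOf_dvd_card' (G := S) t (by
    rw [hS]; exact (Dvd.intro_left _ rfl).trans (Nat.dvd_of_mod_eq_zero h3))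
  exact nd_cent hs ht hst hS hx (hc x hx) hchk

example : cchk 7920 2 5 4 5 = true := by decide +kernel
example : cchk 808017424794512875886459904961710757005754368000000000 2 17 46 2856 = true := by decide +kernel

end Cfsg.Agent.H464.RM
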