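import Cfsg.Agent.H464.RM.TI
import Cfsg.Agent.H153.RM.J4
import Cfsg.Agent.H153.RM.J4TI
import Cfsg.Agent.H171.RV.Sol

/-!
# P11 of S3849: `J₄` (helper464)
-/

set_option autoImplicit false

namespace Cfsg.Agent.H464.RM

open Subgroup Cfsg Cfsg.Agent.H571.DExt Cfsg.Agent.H988.CPi Cfsg.Agent.H571.RM Cfsg.Agent.H571.RV
open Cfsg.Agent.H171.RV.SzHall (szc)
open Cfsg.Agent.H153.RM

universe u

namespace JFour

open Cfsg.Agent.H153.RM.JFour Cfsg.Agent.H171.RM Cfsg.Agent.H859

theorem p11_23 : ¬ Dom ({11, 23} : Set ℕ) Spor.J4 := by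
  have := hfin
  obtain ⟨P, hP⟩ := exists_sub (t := 23) (by norm_num) (by norm_num)
  exact nd_norm (a := 3) (b := 1) (by norm_num) (by norm_num) (by norm_num) hc hP (BigNum.data23 hP).2 (by decide +kernel)

theorem p11_29 : ¬ Dom ({11, 29} : Set ℕ) Spor.J4 := by
  have := hfin
  obtain ⟨P, hP⟩ := exists_sub (t := 29) (by norm_num) (by norm_num)
  exact nd_norm (a := 3) (b := 0) (by norm_num) (by norm_num) (by norm_num) hc hP (BigNum.data29' hP).2 (by decide +kernel)

theorem p11_31 : ¬ Dom ({11, 31} : Set ℕ) Spor.J4 := by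
  have := hfin
  obtain ⟨P, hP⟩ := exists_sub (t := 31) (by norm_num) (by norm_num)
  exact nd_norm (a := 3) (b := 0) (by norm_num) (by norm_num) (by norm_num) hc hP (BigNum.data31 hP).2 (by decide +kernel)

theorem p11_37 : ¬ Dom ({11, 37} : Set ℕ) Spor.J4 := by
  have := hfin
  obtain ⟨P, hP⟩ := exists_sub (t := 37) (by norm_num) (by norm_num)
  exact nd_norm (a := 3) (b := 0) (by norm_num) (by norm_num) (by norm_num) hc hP (BigNum.data37 hP).2 (by decide +kernel)

theorem p11_43 : ¬ Dom ({11, 43} : Set ℕ) Spor.J4 := by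
  have := hfin
  obtain ⟨P, hP⟩ := exists_sub (t := 43) (by norm_num) (by norm_num)
  exact nd_norm (a := 3) (b := 0) (by norm_num) (by norm_num) (by norm_num) hc hP (BigNum.data43 hP).2 (by decide +kernel)

end JFour

variable {S : Type u} [Group S] [Finite S] {π : Set ℕ}

theorem j4_chk : pchk 86775571046077562880 [2, 3, 5, 7, 11, 23, 29, 31, 37, 43] [(3, 11), (5, 11), (7, 11)] = true := by
  decide +kernel

theorem her_j4 (h6 : 2 ∈ π → 3 ∈ π → Dom π S → PiGrp π S) (h : Spor.IsoJ4 S) : Her π S := by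
  have hc : Nat.card S = 86775571046077562880 := NotCT.Orders.j4 h
  have hL : ∀ q ∈ [2, 3, 5, 7, 11, 23, 29, 31, 37, 43], q.Prime := by norm_num
  have hN : 86775571046077562880 ∣ [2, 3, 5, 7, 11, 23, 29, 31, 37, 43].prod ^ 21 := by norm_num
  by_cases h2 : 2 ∈ π
  · refine her_of_mem h2 h6 (fun _ h3 _ => H171.RV.Sol.sol_of hc (H171.RV.Sol.szc_one (by norm_num) (by norm_num [szc])
      (by norm_num [szc]) (by norm_num [szc])) (by norm_num) (by norm_num) h3) ?_
    intro p hp h5 hpd
    rw [hc] at hpd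
    have hm := mem_primes hp hpd _ hL 21 hN
    simp only [List.mem_cons, List.not_mem_nil, or_false] at hm
    rcases hm with rfl | rfl | rfl | rfl | rfl | rfl | rfl | rfl | rfl | rfl
    · omega
    · omega
    · exact no2_j4_5 h
    · exact no2_j4_7 h
    · exact no2_j4_11 h
    · exact no2_j4_23 h
    · exact no2_j4_29 h
    · exact no2_j4_31 h
    · exact no2_j4_37 h
    · exact no2_j4_43 h
  · intro hD
    have hsol : ∀ H : Subgroup S, IsPiHall π H → Group.IsSolvable H := by
      intro H hH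
      apply S0205.result
      rw [← Nat.not_even_iff_odd, even_iff_two_dvd]
      exact fun h => h2 (hH.1 2 Nat.prime_two h)
    have hpair : ∀ s t : ℕ, s ∈ π → t ∈ π → Dom ({s, t} : Set ℕ) S := by
      intro s t hs ht
      refine dom_sub ?_ hD hsol
      intro q hq
      rcases hq with rfl | hq
      · exact hs
      · rw [Set.mem_singleton_iff] at hq
        rw [hq]; exact ht
    by_cases h511 : 5 ∈ π ∧ 11 ∈ π
    · obtain ⟨h5π, h11π⟩ := h511
      obtain ⟨e⟩ := h
      have h : Spor.IsoJ4 S := ⟨e⟩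
      refine her_of_ti (s := 5) (t := 11) (b := 3) (m := 86775571046077562880 / (5 * 11 ^ 3)) (by norm_num) (by norm_num)
        (by norm_num) (by rw [hc]; norm_num) (by norm_num) (by norm_num) (by norm_num) h5π h11π ?_
        (fun P hP g hg => JFourTI.j4_ti h P hP g hg) hD
      intro p hp hpπ hpd
      rw [hc] at hpd
      have hm := mem_primes hp hpd _ hL 21 hN
      simp only [List.mem_cons, List.not_mem_nil, or_false] at hm
      rcases hm with rfl | rfl | rfl | rfl | rfl | rfl | rfl | rfl | rfl | rfl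
      · exact absurd hpπ h2
      · exact absurd (hpair 3 11 hpπ h11π) (no_j4_3_11 h)
      · exact Or.inl rfl
      · exact absurd (hpair 7 11 hpπ h11π) (no_j4_7_11 h)
      · exact Or.inr rfl
      · exact absurd (hpair 11 23 h11π hpπ) fun hd => JFour.p11_23 (H555.RV.dom_equiv e hd)
      · exact absurd (hpair 11 29 h11π hpπ) fun hd => JFour.p11_29 (H555.RV.dom_equiv e hd)
      · exact absurd (hpair 11 31 h11π hpπ) fun hd => JFour.p11_31 (H555.RV.dom_equiv e hd)
      · exact absurd (hpair 11 37 h11π hpπ) fun hd => JFour.p11_37 (H555.RV.dom_equiv e hd)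
      · exact absurd (hpair 11 43 h11π hpπ) fun hd => JFour.p11_43 (H555.RV.dom_equiv e hd)
    · refine her_of_pairs h2 (fun s t hs ht hsπ htπ hst hsS htS => ?_) hD
      rcases pairs_of_dom hc _ hL 21 hN _ j4_chk h2 hD hs ht hsπ htπ hst hsS htS with ⟨h', hd⟩ | h'
      · exfalso
        simp only [List.mem_cons, Prod.mk.injEq, List.not_mem_nil, or_false] at h'
        rcases h' with ⟨rfl, rfl⟩ | ⟨rfl, rfl⟩ | ⟨rfl, rfl⟩
        · exact no_j4_3_11 h hd
        · exact h511 ⟨hsπ, htπ⟩
        · exact no_j4_7_11 h hd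
      · exact h'

end Cfsg.Agent.H464.RM
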