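import Cfsg.Agent.H464.RM.ZC
import Cfsg.Agent.H571.RM.Pred
import Cfsg.Agent.H171.RV.SzHall
import Cfsg.Agent.S0205
import Cfsg.Agent.S4334

/-!
# Groups with harmless pairs of odd primes: `E_π` implies `D_π` (helper464)

`NS N s t` : `t` divides no `s ^ i - 1` with `s ^ i ∣ N`, `i ≥ 1`.  `PairOK N s t` : `NS N s t` and (`NS N t s` or `t ^ 2 ∤ N`).

* `sylow_normal` : a solvable group with `NS |Y| s t` for all primes `s ≠ t` has a normal Sylow `t`-subgroup;
* `dom_of_pairs` : `|X| ∣ N`, `2 ∉ π`, `PairOK N s t` for all `s < t` in `π ∩ π(X)` : `E_π` implies `D_π`;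
* `her_of_pairs` : `Her π S`.
-/

set_option autoImplicit false

namespace Cfsg.Agent.H464.RM

open Subgroup Cfsg Cfsg.Agent.H571.DExt Cfsg.Agent.H988.CPi Cfsg.Agent.Solvable.SZ Cfsg.Agent.H571.RM
open Cfsg.Agent.H171.RV.SzHall (exists_hall isPiHall_of)
open scoped Pointwise

universe u

def NS (N s t : ℕ) : Prop := ∀ i, 1 ≤ i → s ^ i ∣ N → ¬ t ∣ s ^ i - 1

def PairOK (N s t : ℕ) : Prop := NS N s t ∧ (NS N t s ∨ ¬ t ^ 2 ∣ N)

theorem NS.of_dvd {N M s t : ℕ} (h : NS N s t) (hd : M ∣ N) : NS M s t := fun i hi h1 => h i hi (h1.trans hd)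

theorem PairOK.of_dvd {N M s t : ℕ} (h : PairOK N s t) (hd : M ∣ N) : PairOK M s t :=
  ⟨h.1.of_dvd hd, h.2.imp (fun h1 => h1.of_dvd hd) fun h1 h2 => h1 (h2.trans hd)⟩

theorem card_sup_of_coprime {Y : Type*} [Group Y] [Finite Y] {T : Subgroup Y} (M : Subgroup Y) [M.Normal]
    (hcop : Nat.Coprime (Nat.card T) (Nat.card M)) : Nat.card (T ⊔ M : Subgroup Y) = Nat.card T * Nat.card M := by
  have h1 := H555.RV.card_inf_mul T (T ⊔ M)
  have h2 := H555.RV.card_inf_mul T M
  rw [inf_eq_left.2 le_sup_left, relIndex_sup'] at h1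
  rw [(Subgroup.disjoint_of_coprime_natCard hcop).eq_bot, card_bot, one_mul] at h2
  rw [← h1, h2]

/-- **a normal Sylow subgroup** -/
theorem sylow_normal {t : ℕ} [ht : Fact t.Prime] (n : ℕ) : ∀ (Y : Type u) [Group Y] [Finite Y], Nat.card Y = n →
    Group.IsSolvable Y → (∀ s : ℕ, s.Prime → s ≠ t → NS n s t) → ∀ T : Sylow t Y, (T : Subgroup Y).Normal := by
  induction n using Nat.strong_induction_on with
  | _ n ih =>
  intro Y _ _ hn hsol hns T
  by_cases h1 : Nat.card Y = 1
  · have hs : Subsingleton Y := (Nat.card_eq_one_iff_unique.1 h1).1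
    exact ⟨fun x hx g => by rwa [Subsingleton.elim (g * x * g⁻¹) x]⟩
  obtain ⟨s, hs, M, hMn, hM1, hMs⟩ := exists_normal_pgroup Y h1 hsol
  have hFs : Fact s.Prime := ⟨hs⟩
  have hcard := Subgroup.card_eq_card_quotient_mul_card_subgroup M
  rw [hn] at hcard
  have hlt : Nat.card (Y ⧸ M) < n := by
    have h2 : 1 < Nat.card M := by rw [Subgroup.one_lt_card_iff_ne_bot]; exact hM1
    have h3 : 0 < Nat.card (Y ⧸ M) := Nat.card_pos
    rw [hcard]
    nlinarith
  have hd : Nat.card (Y ⧸ M) ∣ n := ⟨_, hcard⟩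
  have h2 := ih _ hlt (Y ⧸ M) rfl inferInstance (fun s hs hst => (hns s hs hst).of_dvd hd)
    (T.mapSurjective (QuotientGroup.mk'_surjective M))
  have h3 : ((T : Subgroup Y) ⊔ M).Normal := by
    have h4 : ((T : Subgroup Y).map (QuotientGroup.mk' M)).Normal := h2
    have h5 := h4.comap (QuotientGroup.mk' M)
    rwa [comap_map_eq, QuotientGroup.ker_mk'] at h5
  by_cases hst : s = t
  · subst hst
    have h4 : (T : Subgroup Y) ⊔ M = T := by
      have h5 : IsPGroup s ((T : Subgroup Y) ⊔ M : Subgroup Y) := T.isPGroup'.to_sup_of_normal_right hMs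
      exact T.is_maximal' h5 le_sup_left
    rwa [h4] at h3
  · set K : Subgroup Y := (T : Subgroup Y) ⊔ M with hK
    have hTK : (T : Subgroup Y) ≤ K := le_sup_left
    obtain ⟨b, hb⟩ := T.isPGroup'.exists_card_eq
    obtain ⟨a, ha⟩ := hMs.exists_card_eq
    have hcop : Nat.Coprime (Nat.card (T : Subgroup Y)) (Nat.card M) := by
      rw [hb, ha]
      exact Nat.Coprime.pow _ _ ((Nat.coprime_primes ht.out hs).2 (Ne.symm hst))
    have hcK : Nat.card K = s ^ a * t ^ b := by
      rw [hK, card_sup_of_coprime M hcop, ha, hb, mul_comm]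
    have hsn : s ^ a ∣ n := by rw [← ha, ← hn]; exact card_subgroup_dvd_card M
    have h5 := normal_of_count hs hcK (fun k hk1 hk2 => hns s hs hst k hk1 ((pow_dvd_pow s hk2).trans hsn))
      (T.subtype hTK)
    have h6 : ((T.subtype hTK : Sylow t K) : Subgroup K).Characteristic := (T.subtype hTK).characteristic_of_normal h5
    have h7 : (((T.subtype hTK : Sylow t K) : Subgroup K).map K.subtype).Normal := inferInstance
    have h8 : ((T.subtype hTK : Sylow t K) : Subgroup K).map K.subtype = (T : Subgroup Y) := by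
      rw [Sylow.coe_subtype, subgroupOf_map_subtype, inf_eq_left.2 hTK]
    rwa [h8] at h7

/-- a subgroup `K` of order prime to `t` centralises a normal Sylow `t`-subgroup if `NS n t s` for all primes `s` dividing `|K|` -/
theorem comm_of_ns {t : ℕ} [ht : Fact t.Prime] {Y : Type u} [Group Y] [Finite Y] {T : Subgroup Y} (hTn : T.Normal)
    (hTp : IsPGroup t T) {K : Subgroup Y} (hK : ¬ t ∣ Nat.card K)
    (hns : ∀ s : ℕ, s.Prime → s ∣ Nat.card K → NS (Nat.card Y) t s) : K ≤ centralizer (T : Set Y) := by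
  set C := centralizer (T : Set Y) with hC
  rw [← relIndex_eq_one]
  by_contra hne
  obtain ⟨s, hs, hd⟩ := Nat.exists_prime_and_dvd hne
  have hFs : Fact s.Prime := ⟨hs⟩
  have hsK : s ∣ Nat.card K := hd.trans (relIndex_dvd_card C K)
  have hst : s ≠ t := fun h => hK (h ▸ hsK)
  obtain ⟨P⟩ : Nonempty (Sylow s K) := inferInstance
  set P' : Subgroup Y := (P : Subgroup K).map K.subtype with hP'
  have hP'p : IsPGroup s P' := P.isPGroup'.map _
  -- `P'` centralises `T`
  have hPC : P' ≤ C := by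
    obtain ⟨b, hb⟩ := hTp.exists_card_eq
    obtain ⟨a, ha⟩ := hP'p.exists_card_eq
    have hcop : Nat.Coprime (Nat.card P') (Nat.card T) := by
      rw [hb, ha]
      exact Nat.Coprime.pow _ _ ((Nat.coprime_primes hs ht.out).2 hst)
    set L : Subgroup Y := P' ⊔ T with hL
    have hcL : Nat.card L = t ^ b * s ^ a := by
      rw [hL, card_sup_of_coprime T hcop, ha, hb, mul_comm]
    have htn : t ^ b ∣ Nat.card Y := by rw [← hb]; exact card_subgroup_dvd_card T
    have hPL : P' ≤ L := le_sup_left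
    have hTL : T ≤ L := le_sup_right
    have hPS : ¬ s ∣ (P'.subgroupOf L).index := by
      have h1 := (P'.subgroupOf L).card_mul_index
      rw [Nat.card_congr (subgroupOfEquivOfLe hPL).toEquiv, hcL, ha] at h1
      have h2 : (P'.subgroupOf L).index = t ^ b := by
        apply Nat.eq_of_mul_eq_mul_left (pow_pos hs.pos a)
        rw [h1, mul_comm]
      rw [h2]
      exact fun h => hst ((Nat.prime_dvd_prime_iff_eq hs ht.out).1 (hs.dvd_of_dvd_pow h))
    have hPp : IsPGroup s (P'.subgroupOf L) := by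
      refine IsPGroup.of_card (n := a) ?_
      rw [Nat.card_congr (subgroupOfEquivOfLe hPL).toEquiv, ha]
    have h5 := normal_of_count ht.out hcL (fun k hk1 hk2 => hns s hs hsK k hk1 ((pow_dvd_pow t hk2).trans htn))
      (hPp.toSylow hPS)
    rw [IsPGroup.toSylow_coe] at h5
    have hTn' : (T.subgroupOf L).Normal := inferInstance
    have hdis : Disjoint (P'.subgroupOf L) (T.subgroupOf L) := by
      rw [disjoint_iff, eq_bot_iff]
      rintro x ⟨hx1, hx2⟩
      have h7 : (x : Y) ∈ P' ⊓ T := ⟨hx1, hx2⟩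
      rw [(Subgroup.disjoint_of_coprime_natCard hcop).eq_bot] at h7
      exact mem_bot.2 (Subtype.ext (mem_bot.1 h7))
    intro x hx
    rw [hC, mem_centralizer_iff]
    intro y hy
    have h6 := Subgroup.commute_of_normal_of_disjoint _ _ h5 hTn' hdis ⟨x, hPL hx⟩ ⟨y, hTL hy⟩ hx hy
    exact (congrArg Subtype.val h6.eq).symm
  have h1 : (P : Subgroup K) ≤ C.subgroupOf K := by
    intro x hx
    exact hPC ⟨x, hx, rfl⟩
  exact P.not_dvd_index (hd.trans (index_dvd_of_le h1))

/-- conjugation into a given Hall subgroup -/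
theorem dom_conj {π : Set ℕ} {G : Type*} [Group G] [Finite G] (h : Dom π G) {H : Subgroup G} (hH : IsPiHall π H)
    {K : Subgroup G} (hK : PiN π (Nat.card K)) : ∃ g : G, K ≤ MulAut.conj g • H := by
  obtain ⟨L, hL, hLd⟩ := h
  obtain ⟨g, hg⟩ := (Dom.cpi ⟨L, hL, hLd⟩).2 L H hL hH
  obtain ⟨y, hy⟩ := hLd K hK
  refine ⟨y * g⁻¹, hy.trans ?_⟩
  have hg' : H = MulAut.conj g • L := hg
  rw [hg', ← mul_smul, ← map_mul, inv_mul_cancel_right]

/-- a normal subgroup of a Hall subgroup may be factored out -/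
theorem dom_of_quot {π : Set ℕ} {G : Type*} [Group G] [Finite G] (A : Subgroup G) [A.Normal] {H : Subgroup G}
    (hH : IsPiHall π H) (hAH : A ≤ H) (h : Dom π (G ⧸ A)) : Dom π G := by
  refine ⟨H, hH, fun K hK => ?_⟩
  have hKm : PiN π (Nat.card (K.map (QuotientGroup.mk' A))) := PiN.of_dvd hK (card_map_dvd K _)
  obtain ⟨g', hg'⟩ := dom_conj h (isPiHall_map_mk hH A) hKm
  obtain ⟨g, rfl⟩ := QuotientGroup.mk'_surjective A g'
  refine ⟨g, fun x hx => ?_⟩
  obtain ⟨y, ⟨z, hz, rfl⟩, hy⟩ := hg' ⟨x, hx, rfl⟩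
  have h1 : QuotientGroup.mk' A (g * z * g⁻¹) = QuotientGroup.mk' A x := by
    rw [map_mul, map_mul, map_inv]; exact hy
  have h2 : (g * z * g⁻¹)⁻¹ * x ∈ A := QuotientGroup.eq.1 h1
  have h3 : z * (g⁻¹ * ((g * z * g⁻¹)⁻¹ * x) * g) ∈ H := by
    refine H.mul_mem hz (hAH ?_)
    have := (inferInstance : A.Normal).conj_mem _ h2 g⁻¹
    rwa [inv_inv] at this
  refine ⟨_, h3, ?_⟩
  show g * (z * (g⁻¹ * ((g * z * g⁻¹)⁻¹ * x) * g)) * g⁻¹ = x
  group

open Classical in
/-- **E_π implies D_π** -/
theorem dom_of_pairs {N : ℕ} (k : ℕ) : ∀ (X : Type u) [Group X] [Finite X] (π : Set ℕ),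
    ((Nat.card X).primeFactors.filter (· ∈ π)).card ≤ k → Nat.card X ∣ N → 2 ∉ π →
    (∀ s t : ℕ, s.Prime → t.Prime → s ∈ π → t ∈ π → s < t → s ∣ Nat.card X → t ∣ Nat.card X → PairOK N s t) →
    ∀ H : Subgroup X, IsPiHall π H → Dom π X := by
  induction k with
  | zero =>
    intro X _ _ π hk _ _ _ H hH
    refine ⟨H, hH, fun K hK => ⟨1, ?_⟩⟩
    have h1 : Nat.card K = 1 := by
      by_contra hne
      obtain ⟨p, hp, hd⟩ := Nat.exists_prime_and_dvd hne
      have h2 : p ∈ (Nat.card X).primeFactors.filter (· ∈ π) := by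
        rw [Finset.mem_filter, Nat.mem_primeFactors]
        exact ⟨⟨hp, hd.trans (card_subgroup_dvd_card K), Nat.card_pos.ne'⟩, hK p hp hd⟩
      have h3 := Finset.card_pos.2 ⟨p, h2⟩
      omega
    rw [Subgroup.eq_bot_of_card_eq K h1]
    exact bot_le
  | succ k ih =>
    intro X _ _ π hk hXN h2π hpairs H hH
    by_cases hex : ((Nat.card X).primeFactors.filter (· ∈ π)).Nonempty
    swap
    · rw [Finset.not_nonempty_iff_eq_empty] at hex
      refine ⟨H, hH, fun K hK => ⟨1, ?_⟩⟩
      have h1 : Nat.card K = 1 := by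
        by_contra hne
        obtain ⟨p, hp, hd⟩ := Nat.exists_prime_and_dvd hne
        have h2 : p ∈ (Nat.card X).primeFactors.filter (· ∈ π) := by
          rw [Finset.mem_filter, Nat.mem_primeFactors]
          exact ⟨⟨hp, hd.trans (card_subgroup_dvd_card K), Nat.card_pos.ne'⟩, hK p hp hd⟩
        rw [hex] at h2
        exact absurd h2 (Finset.notMem_empty p)
      rw [Subgroup.eq_bot_of_card_eq K h1]
      exact bot_le
    set F := (Nat.card X).primeFactors.filter (· ∈ π) with hF
    set q := F.max' hex with hq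
    have hqF : q ∈ F := Finset.max'_mem F hex
    have hqF' := hqF
    rw [hF, Finset.mem_filter, Nat.mem_primeFactors] at hqF'
    obtain ⟨⟨hqp, hqX, -⟩, hqπ⟩ := hqF'
    have hFq : Fact q.Prime := ⟨hqp⟩
    have hmax : ∀ s : ℕ, s.Prime → s ∈ π → s ∣ Nat.card X → s ≠ q → s < q := by
      intro s hs hsπ hsX hne
      refine lt_of_le_of_ne (Finset.le_max' F s ?_) hne
      rw [hF, Finset.mem_filter, Nat.mem_primeFactors]
      exact ⟨⟨hs, hsX, Nat.card_pos.ne'⟩, hsπ⟩
    -- `π`-subgroups
    have hsolv : ∀ Y : Subgroup X, PiN π (Nat.card Y) → Group.IsSolvable Y := by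
      intro Y hY
      apply S0205.result
      rw [← Nat.not_even_iff_odd, even_iff_two_dvd]
      exact fun h => h2π (hY 2 Nat.prime_two h)
    have hnorm : ∀ Y : Subgroup X, PiN π (Nat.card Y) → ∀ T : Sylow q Y, (T : Subgroup Y).Normal := by
      intro Y hY T
      refine sylow_normal (Nat.card Y) Y rfl (hsolv Y hY) (fun s hs hne => ?_) T
      intro i hi hsi
      have hsY : s ∣ Nat.card Y := (dvd_pow_self s (by omega)).trans hsi
      have hsX : s ∣ Nat.card X := hsY.trans (card_subgroup_dvd_card Y)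
      have hsπ := hY s hs hsY
      exact (hpairs s q hs hqp hsπ hqπ (hmax s hs hsπ hsX hne) hsX hqX).1 i hi
        (hsi.trans ((card_subgroup_dvd_card Y).trans hXN))
    set τ : Set ℕ := π \ {q} with hτ
    obtain ⟨L, hL⟩ := exists_hall (hsolv H hH.1) τ
    set Ht : Subgroup X := L.map H.subtype with hHt
    have hHtτ : IsPiHall τ Ht := isPiHall_of hL fun p hp hpτ => hH.2 p hp hpτ.1
    have hHtH : Ht ≤ H := map_subtype_le L
    have hdt : Dom τ X := by
      refine ih X τ ?_ hXN (fun h => h2π h.1) (fun s t hs ht hsτ htτ hst hsX htX =>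
        hpairs s t hs ht hsτ.1 htτ.1 hst hsX htX) Ht hHtτ
      have h1 : (Nat.card X).primeFactors.filter (· ∈ τ) ⊂ F := by
        refine (Finset.ssubset_iff_of_subset ?_).2 ⟨q, hqF, ?_⟩
        · intro p hp
          rw [Finset.mem_filter] at hp
          rw [hF, Finset.mem_filter]
          exact ⟨hp.1, hp.2.1⟩
        · rw [Finset.mem_filter]
          rintro ⟨-, h⟩
          exact h.2 rfl
      have h2 := Finset.card_lt_card h1
      have h3 : ((Nat.card X).primeFactors.filter (· ∈ τ)).card ≤ k := by omega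
      convert h3
    obtain ⟨T⟩ : Nonempty (Sylow q H) := inferInstance
    have hTn := hnorm H hH.1 T
    by_cases hq2 : q ^ 2 ∣ N
    · -- the nilpotent case
      have hcomm : L ≤ centralizer ((T : Subgroup H) : Set H) := by
        have hqL : ¬ q ∣ Nat.card L := fun h => (hL.1 q hqp h).2 rfl
        refine comm_of_ns hTn T.isPGroup' hqL fun s hs hsL => ?_
        have hsτ := hL.1 s hs hsL
        have hsX : s ∣ Nat.card X := (hsL.trans (card_subgroup_dvd_card L)).trans (card_subgroup_dvd_card H)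
        rcases (hpairs s q hs hqp hsτ.1 hqπ (hmax s hs hsτ.1 hsX hsτ.2) hsX hqX).2 with h | h
        · exact h.of_dvd ((card_subgroup_dvd_card H).trans hXN)
        · exact absurd hq2 h
      have hjoin : (T : Subgroup H) ⊔ L = ⊤ := by
        rw [← index_eq_one]
        by_contra hne
        obtain ⟨p, hp, hd⟩ := Nat.exists_prime_and_dvd hne
        have hpH : p ∈ π := hH.1 p hp (hd.trans (index_dvd_card _))
        by_cases hpq : p = q
        · rw [hpq] at hd
          exact T.not_dvd_index (hd.trans (index_dvd_of_le le_sup_left))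
        · exact hL.2 p hp ⟨hpH, hpq⟩ (hd.trans (index_dvd_of_le le_sup_right))
      refine dom_iff.1 (S4334.result ({q} : Set ℕ) τ π ?_ ?_ H ((T : Subgroup H).map H.subtype) Ht hH ?_ hHtτ.1
        ?_ ?_ ?_ (dom_iff.2 hdt))
      · rw [hτ, Set.union_comm, Set.sdiff_union_self, Set.union_singleton, Set.insert_eq_of_mem hqπ]
      · rw [hτ]; exact Set.disjoint_sdiff_right
      · intro p hp hd
        obtain ⟨b, hb⟩ := (T.isPGroup'.map H.subtype).exists_card_eq
        rw [hb] at hd
        exact (Nat.prime_dvd_prime_iff_eq hp hqp).1 (hp.dvd_of_dvd_pow hd)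
      · exact (T.isPGroup'.map H.subtype).isNilpotent
      · rw [hHt, ← Subgroup.map_sup, hjoin, ← MonoidHom.range_eq_map, range_subtype]
      · rintro _ ⟨x, hx, rfl⟩ _ ⟨y, hy, rfl⟩
        exact congrArg Subtype.val (mem_centralizer_iff.1 (hcomm hy) x hx)
    · -- a normal subgroup of prime order
      have hXq : ¬ q ^ 2 ∣ Nat.card X := fun h => hq2 (h.trans hXN)
      obtain ⟨n, hn⟩ := hqX
      have hqn : ¬ q ∣ n := by
        intro h
        apply hXq
        rw [hn, pow_two]
        exact mul_dvd_mul_left q h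
      have hcard_q : ∀ Y : Subgroup X, q ∣ Nat.card Y → ∀ T : Sylow q Y, Nat.card (T : Subgroup Y) = q := by
        intro Y hqY T
        obtain ⟨y, hy⟩ := hqY
        have h1 := H555.RV.card_sylow_of T (b := 1) (n := y) (by rw [pow_one]; exact hy) (by
          intro h
          apply hXq
          refine Dvd.dvd.trans ?_ (card_subgroup_dvd_card Y)
          rw [hy, pow_two]
          exact mul_dvd_mul_left q h)
        rwa [pow_one] at h1
      have hqH : q ∣ Nat.card H := by
        have h1 : q ∣ Nat.card H * H.index := by rw [card_mul_index, hn]; exact dvd_mul_right _ _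
        exact (hqp.dvd_mul.1 h1).resolve_right (hH.2 q hqp hqπ)
      set A : Subgroup X := (T : Subgroup H).map H.subtype with hA
      have hAc : Nat.card A = q := by
        rw [hA, card_map_of_injective H.subtype_injective, hcard_q H hqH T]
      have hAH : A ≤ H := map_subtype_le _
      -- `D_π` in the normalizer of `A`
      set M : Subgroup X := normalizer (A : Set X) with hM
      have hnorm' : ∀ (Y : Subgroup X) (T : Sylow q Y), (T : Subgroup Y).Normal →
          Y ≤ normalizer (((T : Subgroup Y).map Y.subtype : Subgroup X) : Set X) := by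
        intro Y T hT x hx
        apply mem_normalizer_fintype
        rintro y ⟨z, hz, rfl⟩
        exact ⟨⟨x, hx⟩ * z * ⟨x, hx⟩⁻¹, hT.conj_mem z hz _, by simp⟩
      have hHM : H ≤ M := hnorm' H T hTn
      have hAM : A ≤ M := hAH.trans hHM
      set A' : Subgroup M := A.subgroupOf M with hA'
      have hA'n : A'.Normal := normal_in_normalizer
      have hA'c : Nat.card A' = q := by rw [hA', Nat.card_congr (subgroupOfEquivOfLe hAM).toEquiv, hAc]
      have hHMh : IsPiHall π (H.subgroupOf M) := hall_subgroupOf hH hHM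
      have hcM := Subgroup.card_eq_card_quotient_mul_card_subgroup A'
      rw [hA'c] at hcM
      have hMX : Nat.card M ∣ Nat.card X := card_subgroup_dvd_card M
      have hQM : Nat.card (M ⧸ A') ∣ Nat.card M := ⟨_, hcM⟩
      have hqQ : ¬ q ∣ Nat.card (M ⧸ A') := by
        intro h
        apply hXq
        refine Dvd.dvd.trans ?_ hMX
        rw [hcM, pow_two]
        exact mul_dvd_mul_right h q
      have hdM : Dom π M := by
        refine dom_of_quot A' hHMh ?_ ?_
        · intro x hx
          exact hAH hx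
        · refine ih (M ⧸ A') π ?_ ((hQM.trans hMX).trans hXN) h2π (fun s t hs ht hsτ htτ hst hsX htX =>
            hpairs s t hs ht hsτ htτ hst ((hsX.trans hQM).trans hMX) ((htX.trans hQM).trans hMX)) _
            (isPiHall_map_mk hHMh A')
          have h1 : (Nat.card (M ⧸ A')).primeFactors.filter (· ∈ π) ⊂ F := by
            refine (Finset.ssubset_iff_of_subset ?_).2 ⟨q, hqF, ?_⟩
            · intro p hp
              rw [Finset.mem_filter, Nat.mem_primeFactors] at hp
              rw [hF, Finset.mem_filter, Nat.mem_primeFactors]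
              exact ⟨⟨hp.1.1, (hp.1.2.1.trans hQM).trans hMX, Nat.card_pos.ne'⟩, hp.2⟩
            · rw [Finset.mem_filter, Nat.mem_primeFactors]
              rintro ⟨⟨-, h, -⟩, -⟩
              exact hqQ h
          have h2 := Finset.card_lt_card h1
          omega
      refine ⟨H, hH, fun K hK => ?_⟩
      by_cases hqK : q ∣ Nat.card K
      · obtain ⟨B⟩ : Nonempty (Sylow q K) := inferInstance
        have hBn := hnorm K hK B
        set B' : Subgroup X := (B : Subgroup K).map K.subtype with hB'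
        have hBc : Nat.card B' = q := by
          rw [hB', card_map_of_injective K.subtype_injective, hcard_q K hqK B]
        obtain ⟨g, hg⟩ := exists_conj_eq (s := q) (a := 1) (n := n) (by rw [pow_one]; exact hn) hqn
          (P := B') (Q := A) (by rw [pow_one, hBc]) (by rw [pow_one, hAc])
        have hKM : MulAut.conj g • K ≤ M := by
          have h1 := hnorm' K B hBn
          rintro _ ⟨x, hx, rfl⟩
          apply mem_normalizer_fintype
          intro y hy
          rw [← hg] at hy
          obtain ⟨z, hz, rfl⟩ := hy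
          have h2 : x * z * x⁻¹ ∈ B' := (mem_normalizer_iff.1 (h1 hx) z).1 hz
          rw [← hg]
          refine ⟨_, h2, ?_⟩
          show g * (x * z * x⁻¹) * g⁻¹ = g * x * g⁻¹ * (g * z * g⁻¹) * (g * x * g⁻¹)⁻¹
          group
        obtain ⟨m, hm, hle⟩ := DomIn.of_dom hH hHM hdM (MulAut.conj g • K) hKM (by rw [card_conj_smul]; exact hK)
        refine ⟨g⁻¹ * m, fun x hx => ?_⟩
        obtain ⟨h, hh, hhx⟩ := hle (show g * x * g⁻¹ ∈ MulAut.conj g • K from ⟨x, hx, rfl⟩)
        have hhx' : m * h * m⁻¹ = g * x * g⁻¹ := hhx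
        refine ⟨h, hh, ?_⟩
        show g⁻¹ * m * h * (g⁻¹ * m)⁻¹ = x
        calc g⁻¹ * m * h * (g⁻¹ * m)⁻¹ = g⁻¹ * (m * h * m⁻¹) * g := by group
          _ = x := by rw [hhx']; group
      · obtain ⟨g, hg⟩ := dom_conj hdt hHtτ (K := K) (fun p hp hd => ⟨hK p hp hd, fun h => hqK (h ▸ hd)⟩)
        exact ⟨g, hg.trans (smul_mono_right _ hHtH)⟩

/-- **`Her π S`** for groups with harmless pairs -/
theorem her_of_pairs {S : Type u} [Group S] [Finite S] {π : Set ℕ} (h2 : 2 ∉ π)
    (hp : ∀ s t : ℕ, s.Prime → t.Prime → s ∈ π → t ∈ π → s < t → s ∣ Nat.card S → t ∣ Nat.card S →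
      PairOK (Nat.card S) s t) : Her π S := by
  intro _ H M hH hHM
  exact dom_of_pairs (N := Nat.card S) _ M π le_rfl (card_subgroup_dvd_card M) h2
    (fun s t hs ht hsπ htπ hst hsM htM => hp s t hs ht hsπ htπ hst (hsM.trans (card_subgroup_dvd_card M))
      (htM.trans (card_subgroup_dvd_card M))) _ (hall_subgroupOf hH hHM)

end Cfsg.Agent.H464.RM
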