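import Cfsg.Agent.H464.RM.AsmBase

/-!
# A Hall subgroup `P : s`, `P` a TI Sylow `t`-subgroup (helper464)

`her_of_ti` : `π ∩ π(S) ⊆ {s, t}`, `|S|_s = s`, `t ∤ s - 1`, the Sylow `t`-subgroups of `S` are TI : `Her π S`.
-/

set_option autoImplicit false

namespace Cfsg.Agent.H464.RM

open Subgroup Cfsg Cfsg.Agent.H571.DExt Cfsg.Agent.H988.CPi Cfsg.Agent.Solvable.SZ Cfsg.Agent.H571.RM
open scoped Pointwise

universe u

variable {S : Type u} [Group S] [Finite S] {π : Set ℕ}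

theorem her_of_ti {s t b m : ℕ} (hs : s.Prime) (ht : t.Prime) (hst : s ≠ t) (hS : Nat.card S = s ^ 1 * t ^ b * m)
    (h2 : ¬ s ∣ m) (hm : ¬ t ∣ m) (hns : ¬ t ∣ s - 1) (hsπ : s ∈ π) (htπ : t ∈ π)
    (honly : ∀ p : ℕ, p.Prime → p ∈ π → p ∣ Nat.card S → p = s ∨ p = t)
    (hTI : ∀ P : Subgroup S, Nat.card P = t ^ b → ∀ g : S, P ⊓ P.map (MulAut.conj g).toMonoidHom ≠ ⊥ →
      g ∈ normalizer (P : Set S)) : Her π S := by
  intro _ H M hH hHM
  have hFs : Fact s.Prime := ⟨hs⟩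
  have hFt : Fact t.Prime := ⟨ht⟩
  have hst' : IsPiHall ({s, t} : Set ℕ) H := by
    refine ⟨fun p hp hd => ?_, fun p hp hpp hd => ?_⟩
    · rcases honly p hp (hH.1 p hp hd) (hd.trans (card_subgroup_dvd_card H)) with h | h
      · exact Or.inl h
      · exact Or.inr h
    · rcases hpp with rfl | h
      · exact hH.2 p hp hsπ hd
      · rw [Set.mem_singleton_iff] at h
        subst h
        exact hH.2 p hp htπ hd
  have hcH := card_of_hall hs ht hS h2 hm hst'
  -- `π`-subgroups have a normal Sylow `t`-subgroup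
  have hcard : ∀ Y : Subgroup S, PiN π (Nat.card Y) → ∃ i j : ℕ, i ≤ 1 ∧ j ≤ b ∧ Nat.card Y = s ^ i * t ^ j := by
    intro Y hY
    obtain ⟨i, n, hn, hi⟩ := Nat.exists_eq_pow_mul_and_not_dvd (Nat.card_pos (α := Y)).ne' s hs.ne_one
    have hn0 : n ≠ 0 := by rintro rfl; exact hn (dvd_zero s)
    obtain ⟨j, c, hc, hj⟩ := Nat.exists_eq_pow_mul_and_not_dvd hn0 t ht.ne_one
    have hc1 : c = 1 := by
      by_contra hne
      obtain ⟨p, hp, hd⟩ := Nat.exists_prime_and_dvd hne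
      have h1 : p ∣ Nat.card Y := by rw [hi, hj]; exact dvd_mul_of_dvd_right (dvd_mul_of_dvd_right hd _) _
      rcases honly p hp (hY p hp h1) (h1.trans (card_subgroup_dvd_card Y)) with h | h
      · rw [h] at hd
        exact hn (by rw [hj]; exact dvd_mul_of_dvd_right hd _)
      · rw [h] at hd
        exact hc hd
    rw [hc1, mul_one] at hj
    have hd : Nat.card Y ∣ s ^ 1 * t ^ b * m := by rw [← hS]; exact card_subgroup_dvd_card Y
    refine ⟨i, j, ?_, ?_, by rw [hi, hj]⟩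
    · have h1 : s ^ i ∣ s ^ 1 := by
        have h3 : s ^ i ∣ s ^ 1 * (t ^ b * m) := by
          rw [← mul_assoc]; exact (Dvd.intro _ hi.symm).trans hd
        refine Nat.Coprime.dvd_of_dvd_mul_right (Nat.Coprime.pow_left i ?_) h3
        exact Nat.Coprime.mul_right (Nat.Coprime.pow_right _ ((Nat.coprime_primes hs ht).2 hst))
          ((hs.coprime_iff_not_dvd).2 h2)
      exact (Nat.pow_dvd_pow_iff_le_right hs.one_lt).1 h1
    · have h1 : t ^ j ∣ t ^ b := by
        have h3 : t ^ j ∣ t ^ b * (s ^ 1 * m) := by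
          have h4 : t ^ j ∣ Nat.card Y := by rw [hi, hj]; exact dvd_mul_left _ _
          have h5 := h4.trans hd
          rwa [show s ^ 1 * t ^ b * m = t ^ b * (s ^ 1 * m) by ring] at h5
        refine Nat.Coprime.dvd_of_dvd_mul_right (Nat.Coprime.pow_left j ?_) h3
        exact Nat.Coprime.mul_right (Nat.Coprime.pow_right _ ((Nat.coprime_primes ht hs).2 (Ne.symm hst)))
          ((ht.coprime_iff_not_dvd).2 hm)
      exact (Nat.pow_dvd_pow_iff_le_right ht.one_lt).1 h1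
  have hnorm : ∀ Y : Subgroup S, PiN π (Nat.card Y) → ∀ T : Sylow t Y, (T : Subgroup Y).Normal := by
    intro Y hY T
    obtain ⟨i, j, hi, -, hc⟩ := hcard Y hY
    refine normal_of_count hs hc (fun k hk1 hk2 => ?_) T
    have : k = 1 := by omega
    rw [this, pow_one]
    exact hns
  have hnorm' : ∀ (Y : Subgroup S) (T : Sylow t Y), (T : Subgroup Y).Normal →
      Y ≤ normalizer (((T : Subgroup Y).map Y.subtype : Subgroup S) : Set S) := by
    intro Y T hT x hx
    apply mem_normalizer_fintype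
    rintro y ⟨z, hz, rfl⟩
    exact ⟨⟨x, hx⟩ * z * ⟨x, hx⟩⁻¹, hT.conj_mem z hz _, by simp⟩
  -- the Sylow `t`-subgroup `P` of `H`
  obtain ⟨T⟩ : Nonempty (Sylow t H) := inferInstance
  set P : Subgroup S := (T : Subgroup H).map H.subtype with hP
  have hPc : Nat.card P = t ^ b := by
    rw [hP, card_map_of_injective H.subtype_injective]
    exact H555.RV.card_sylow_of T (b := b) (n := s ^ 1) (by rw [hcH]; ring) (by
      rw [pow_one]
      exact fun h => hst ((Nat.prime_dvd_prime_iff_eq ht hs).1 h).symm)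
  have hPH : P ≤ H := map_subtype_le _
  have hPM : P ≤ M := hPH.trans hHM
  set N : Subgroup S := normalizer (P : Set S) with hN
  have hHN : H ≤ N := hnorm' H T (hnorm H hH.1 T)
  set L : Subgroup S := N ⊓ M with hL
  have hHL : H ≤ L := le_inf hHN hHM
  have hPL : P ≤ L := hPH.trans hHL
  have htP : ¬ t ∣ P.index := by
    have h1 := P.card_mul_index
    rw [hPc, hS, show s ^ 1 * t ^ b * m = t ^ b * (s ^ 1 * m) by ring] at h1
    have h3 : P.index = s ^ 1 * m := Nat.eq_of_mul_eq_mul_left (pow_pos ht.pos b) h1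
    rw [h3, pow_one]
    intro h4
    rcases ht.dvd_mul.1 h4 with h5 | h5
    · exact hst ((Nat.prime_dvd_prime_iff_eq ht hs).1 h5).symm
    · exact hm h5
  -- `D_π` in `L`
  have hdL : Dom π L := by
    set P' : Subgroup L := P.subgroupOf L with hP'
    have hP'n : P'.Normal := by
      constructor
      intro x hx g
      exact (mem_normalizer_iff.1 g.2.1 _).1 hx
    refine dom_of_quot P' (hall_subgroupOf hH hHL) (fun x hx => hPH hx) ?_
    refine dom_of_prime hs (fun p hp hpπ hd => ?_) hsπ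
    have h1 : Nat.card (L ⧸ P') = P'.index := rfl
    have h3 : Nat.card (L ⧸ P') ∣ Nat.card S := (card_quotient_dvd_card P').trans (card_subgroup_dvd_card L)
    rcases honly p hp hpπ (hd.trans h3) with h | h
    · exact h
    · exfalso
      rw [h1, h] at hd
      exact htP (hd.trans (relIndex_dvd_index_of_le hPL))
  refine DomIn.dom (H := H) ?_ hH hHM
  intro K hKM hK
  by_cases htK : t ∣ Nat.card K
  · -- the Sylow `t`-subgroup of `K`
    obtain ⟨B⟩ : Nonempty (Sylow t K) := inferInstance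
    have hBn := hnorm K hK B
    set B' : Subgroup S := (B : Subgroup K).map K.subtype with hB'
    have hB'K : B' ≤ K := map_subtype_le _
    have hB'1 : B' ≠ ⊥ := by
      intro h
      have h1 : (B : Subgroup K) = ⊥ := by
        rwa [hB', map_eq_bot_iff_of_injective _ K.subtype_injective] at h
      have h3 := B.not_dvd_index
      rw [h1, index_bot] at h3
      exact h3 htK
    have hB'p : IsPGroup t B' := B.isPGroup'.map _
    -- into `P`, in `M`
    have hPMp : IsPGroup t (P.subgroupOf M) := by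
      refine IsPGroup.of_card (n := b) ?_
      rw [Nat.card_congr (subgroupOfEquivOfLe hPM).toEquiv, hPc]
    have hPMi : ¬ t ∣ (P.subgroupOf M).index := fun h => htP (h.trans (relIndex_dvd_index_of_le hPM))
    have hBMp : IsPGroup t (B'.subgroupOf M) := hB'p.comap_subtype
    obtain ⟨R, hR⟩ := hBMp.exists_le_sylow
    obtain ⟨m₀, hm₀⟩ := MulAction.exists_smul_eq M R (hPMp.toSylow hPMi)
    have hBP : ∀ x ∈ B', (m₀ : S) * x * (m₀ : S)⁻¹ ∈ P := by
      intro x hx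
      have h1 : (⟨x, hKM (hB'K hx)⟩ : M) ∈ (R : Subgroup M) := hR hx
      have h3 : m₀ * ⟨x, hKM (hB'K hx)⟩ * m₀⁻¹ ∈ ((hPMp.toSylow hPMi : Sylow t M) : Subgroup M) := by
        rw [← hm₀]
        exact ⟨_, h1, rfl⟩
      rw [IsPGroup.toSylow_coe] at h3
      exact h3
    have hKL : MulAut.conj (m₀ : S) • K ≤ L := by
      rintro _ ⟨k, hk, rfl⟩
      have hkM : (MulAut.conj (m₀ : S)) k ∈ M := by
        show (m₀ : S) * k * (m₀ : S)⁻¹ ∈ M
        exact M.mul_mem (M.mul_mem m₀.2 (hKM hk)) (M.inv_mem m₀.2)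
      refine ⟨hTI P hPc _ ?_, hkM⟩
      obtain ⟨⟨x, hx⟩, hx1⟩ := Subgroup.ne_bot_iff_exists_ne_one.1 hB'1
      intro hbot
      have h1 : (m₀ : S) * k * x * k⁻¹ * (m₀ : S)⁻¹ ∈ P := by
        have h3 : k * x * k⁻¹ ∈ B' := (mem_normalizer_iff.1 (hnorm' K B hBn hk) _).1 hx
        have h4 := hBP _ h3
        rwa [show (m₀ : S) * (k * x * k⁻¹) * (m₀ : S)⁻¹ = (m₀ : S) * k * x * k⁻¹ * (m₀ : S)⁻¹ by group] at h4
      have h3 : (m₀ : S) * k * x * k⁻¹ * (m₀ : S)⁻¹ ∈
          P ⊓ P.map (MulAut.conj ((MulAut.conj (m₀ : S)) k)).toMonoidHom := by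
        refine ⟨h1, _, hBP x hx, ?_⟩
        show (m₀ : S) * k * (m₀ : S)⁻¹ * ((m₀ : S) * x * (m₀ : S)⁻¹) * ((m₀ : S) * k * (m₀ : S)⁻¹)⁻¹ = _
        group
      have h4 : (m₀ : S) * k * x * k⁻¹ * (m₀ : S)⁻¹ = 1 := mem_bot.1 (hbot ▸ h3)
      apply hx1
      apply Subtype.ext
      show x = 1
      have h5 : x = k⁻¹ * (m₀ : S)⁻¹ * ((m₀ : S) * k * x * k⁻¹ * (m₀ : S)⁻¹) * (m₀ : S) * k := by group
      rw [h5, h4]
      group
    obtain ⟨l, hl, hle⟩ := DomIn.of_dom hH hHL hdL (MulAut.conj (m₀ : S) • K) hKL (by rw [card_conj_smul]; exact hK)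
    refine ⟨(m₀ : S)⁻¹ * l, M.mul_mem (M.inv_mem m₀.2) hl.2, fun x hx => ?_⟩
    obtain ⟨h, hh, hhx⟩ := hle (show (m₀ : S) * x * (m₀ : S)⁻¹ ∈ MulAut.conj (m₀ : S) • K from ⟨x, hx, rfl⟩)
    have hhx' : l * h * l⁻¹ = (m₀ : S) * x * (m₀ : S)⁻¹ := hhx
    refine ⟨h, hh, ?_⟩
    show (m₀ : S)⁻¹ * l * h * ((m₀ : S)⁻¹ * l)⁻¹ = x
    calc (m₀ : S)⁻¹ * l * h * ((m₀ : S)⁻¹ * l)⁻¹ = (m₀ : S)⁻¹ * (l * h * l⁻¹) * m₀ := by group
      _ = x := by rw [hhx']; group
  · -- an `s`-group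
    have hKs : IsPGroup s K := by
      obtain ⟨i, j, -, -, hc⟩ := hcard K hK
      have hj : j = 0 := by
        by_contra hne
        exact htK (by rw [hc]; exact dvd_mul_of_dvd_right (dvd_pow_self t hne) _)
      exact IsPGroup.of_card (n := i) (by rw [hc, hj, pow_zero, mul_one])
    obtain ⟨F⟩ : Nonempty (Sylow s H) := inferInstance
    set F' : Subgroup S := (F : Subgroup H).map H.subtype with hF'
    have hF'H : F' ≤ H := map_subtype_le _
    have hF'M : F' ≤ M := hF'H.trans hHM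
    have hF'p : IsPGroup s F' := F.isPGroup'.map _
    have hF'i : ¬ s ∣ F'.index := by
      rw [hF', index_map_subtype]
      intro h
      rcases hs.dvd_mul.1 h with h | h
      · exact F.not_dvd_index h
      · exact hH.2 s hs hsπ h
    have hFMp : IsPGroup s (F'.subgroupOf M) := hF'p.comap_subtype
    have hFMi : ¬ s ∣ (F'.subgroupOf M).index := fun h => hF'i (h.trans (relIndex_dvd_index_of_le hF'M))
    have hKMp : IsPGroup s (K.subgroupOf M) := hKs.comap_subtype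
    obtain ⟨R, hR⟩ := hKMp.exists_le_sylow
    obtain ⟨m₀, hm₀⟩ := MulAction.exists_smul_eq M R (hFMp.toSylow hFMi)
    refine ⟨(m₀ : S)⁻¹, M.inv_mem m₀.2, fun x hx => ?_⟩
    have h1 : (⟨x, hKM hx⟩ : M) ∈ (R : Subgroup M) := hR hx
    have h3 : m₀ * ⟨x, hKM hx⟩ * m₀⁻¹ ∈ ((hFMp.toSylow hFMi : Sylow s M) : Subgroup M) := by
      rw [← hm₀]
      exact ⟨_, h1, rfl⟩
    rw [IsPGroup.toSylow_coe] at h3
    refine ⟨(m₀ : S) * x * (m₀ : S)⁻¹, hF'H h3, ?_⟩
    show (m₀ : S)⁻¹ * ((m₀ : S) * x * (m₀ : S)⁻¹) * ((m₀ : S)⁻¹)⁻¹ = x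
    group

end Cfsg.Agent.H464.RM
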